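import Mathlib
import Cfsg.Prelude.Def_Classification2
import Cfsg.Agent.SignalizersComponents.Components
import Cfsg.Agent.Lib.GenFitting
import Cfsg.Agent.Lib.Cores
import Cfsg.Agent.Schreier.Basic
import Cfsg.Agent.UGT.End_m3
import Cfsg.Agent.FixBN.LOAll
import Cfsg.Agent.CTwoTab.Good
import Cfsg.Agent.GTwoRows.Base
import Cfsg.Agent.GenType.Alt
import Cfsg.Agent.StandardComponent.AltAut
import Cfsg.Agent.CTwoTab.Kinds
import Cfsg.Agent.FastGrp
import Cfsg.Agent.Prune
set_option linter.all false

section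
prune_inst 0x7f00000000000000000000000000000000000000000000000000000000000000000000000000000000000000000000000000000000000000000000000000000000000000000000000000000000000000003fffffffffffffffffffffffffffbeffbdffffffff

-- part: H73/OddCent
section
set_option linter.all false
open scoped Cfsg.Agent.FastGrp

-- part: H73/Red
section
/-!
# Centralisers of involutions in groups `X` with `F*(X) = Y` simple: reduction to `Y` (helper73)
-/

set_option autoImplicit false

open Cfsg Subgroup

namespace Cfsg.Agent.H73.Red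

open Cfsg.Agent.Lib Cfsg.Agent.SignalizersComponents Cfsg.Agent.SignalizersComponents.Components

/-- If `F*(X)` is simple with the Schreier property, the perfect subgroups of `X` lie in `F*(X)`. -/
theorem perfect_le {X : Type*} [Group X] [Finite X]
    (hS : Schreier.Basic.Sch ↥(generalizedFittingSubgroup X)) {D : Subgroup X} (hD : ⁅D, D⁆ = D) :
    D ≤ generalizedFittingSubgroup X := by
  have hn : (generalizedFittingSubgroup X).Normal := GenFitting.genFitting_normal
  set F := generalizedFittingSubgroup X with hF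
  let φ : X →* MulAut ↥F := MulAut.conjNormal
  have hφ : φ.ker ≤ F := by
    intro x hx
    have hx' : φ x = 1 := hx
    apply GenFitting.centralizer_genFitting_le
    rw [mem_centralizer_iff]
    intro y hy
    have h2 := congrArg (fun f : MulAut ↥F => ((f ⟨y, hy⟩ : ↥F) : X)) hx'
    simp only [φ, MulAut.conjNormal_apply, MulAut.one_apply] at h2
    rw [mul_inv_eq_iff_eq_mul] at h2
    exact h2.symm
  intro x hx
  have h1 : ⁅D.map φ, D.map φ⁆ = D.map φ := by rw [← Subgroup.map_commutator, hD]
  obtain ⟨y, hy⟩ := hS _ h1 (Subgroup.mem_map_of_mem φ hx)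
  have h2 : φ ((y : X)⁻¹ * x) = 1 := by
    rw [map_mul, map_inv, ← hy]
    have h3 : φ (y : X) = MulAut.conj y := by
      ext z
      simp [φ, MulAut.conjNormal_apply, MulAut.conj_apply]
    rw [h3, inv_mul_cancel]
  have h3 : (y : X)⁻¹ * x ∈ F := hφ h2
  have h4 := F.mul_mem y.2 h3
  rwa [mul_inv_cancel_left] at h4

variable {X : Type*} [Group X]

/-- the centraliser in `Y` of `t` as a subgroup of the centraliser in `X` -/
def centEquiv (Y : Subgroup X) (t : X) (ht : t ∈ Y) :
    ↥(centralizer ({(⟨t, ht⟩ : ↥Y)} : Set ↥Y)) ≃* ↥(Y.subgroupOf (centralizer ({t} : Set X))) where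
  toFun c := ⟨⟨((c : ↥Y) : X), mem_centralizer_singleton_iff.2
    (congrArg Subtype.val (mem_centralizer_singleton_iff.1 c.2))⟩, mem_subgroupOf.2 (c : ↥Y).2⟩
  invFun c := ⟨⟨((c : ↥(centralizer ({t} : Set X))) : X), mem_subgroupOf.1 c.2⟩,
    mem_centralizer_singleton_iff.2 (Subtype.ext (mem_centralizer_singleton_iff.1
      (c : ↥(centralizer ({t} : Set X))).2))⟩
  left_inv _ := rfl
  right_inv _ := rfl
  map_mul' _ _ := rfl

theorem normal_sub {Y : Subgroup X} [Y.Normal] (t : X) :
    (Y.subgroupOf (centralizer ({t} : Set X))).Normal := inferInstance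

/-- the subgroup of `C_X(t)` given by a subgroup of `C_Y(t)` -/
def up (Y : Subgroup X) (t : X) (ht : t ∈ Y) (K : Subgroup ↥(centralizer ({(⟨t, ht⟩ : ↥Y)} : Set ↥Y))) :
    Subgroup ↥(centralizer ({t} : Set X)) :=
  (K.map (centEquiv Y t ht).toMonoidHom).map (Y.subgroupOf (centralizer ({t} : Set X))).subtype

theorem up_injective (Y : Subgroup X) (t : X) (ht : t ∈ Y) : Function.Injective (up Y t ht) :=
  (Subgroup.map_injective (Subgroup.subtype_injective _)).comp
    (Subgroup.map_injective (centEquiv Y t ht).injective)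

theorem up_component {Y : Subgroup X} [Y.Normal] {t : X} {ht : t ∈ Y}
    {K : Subgroup ↥(centralizer ({(⟨t, ht⟩ : ↥Y)} : Set ↥Y))} (hK : IsComponent K) :
    IsComponent (up Y t ht K) :=
  isComponent_map_subtype (Subgroup.Normal.isSubnormal (normal_sub t))
    (isComponent_map_equiv (centEquiv Y t ht) hK)

/-- **Components of `C_X(t)` and of `C_Y(t)`**, if the perfect subgroups of `X` lie in `Y ⊴ X`. -/
theorem component_iff {Y : Subgroup X} [Y.Normal] (hp : ∀ D : Subgroup X, ⁅D, D⁆ = D → D ≤ Y) {t : X}
    (ht : t ∈ Y) {K : Subgroup ↥(centralizer ({t} : Set X))} :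
    IsComponent K ↔ ∃ K' : Subgroup ↥(centralizer ({(⟨t, ht⟩ : ↥Y)} : Set ↥Y)),
      IsComponent K' ∧ up Y t ht K' = K := by
  constructor
  · intro hK
    have h1 : ⁅K, K⁆ = K := component_commutator_self hK
    have h2 : K.map (centralizer ({t} : Set X)).subtype ≤ Y :=
      hp _ (by rw [← Subgroup.map_commutator, h1])
    have h3 : K ≤ Y.subgroupOf (centralizer ({t} : Set X)) := by
      intro k hk
      exact mem_subgroupOf.2 (h2 (Subgroup.mem_map_of_mem _ hk))
    have h4 := isComponent_subgroupOf h3 hK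
    have h5 := isComponent_map_equiv (centEquiv Y t ht).symm h4
    refine ⟨_, h5, ?_⟩
    have h6 : ((centEquiv Y t ht).toMonoidHom.comp (centEquiv Y t ht).symm.toMonoidHom) = MonoidHom.id _ := by
      ext x
      simp
    have h7 : ((K.subgroupOf (Y.subgroupOf (centralizer ({t} : Set X)))).map
        (centEquiv Y t ht).symm.toMonoidHom).map (centEquiv Y t ht).toMonoidHom =
        K.subgroupOf (Y.subgroupOf (centralizer ({t} : Set X))) := by
      rw [Subgroup.map_map, h6, Subgroup.map_id]
    unfold up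
    rw [h7, Subgroup.subgroupOf_map_subtype, inf_eq_left.2 h3]
  · rintro ⟨K', hK', rfl⟩
    exact up_component hK'

/-- the set of components of `C_X(t)` is the image of the set of components of `C_Y(t)` -/
theorem setOf_component {Y : Subgroup X} [Y.Normal] (hp : ∀ D : Subgroup X, ⁅D, D⁆ = D → D ≤ Y) {t : X}
    (ht : t ∈ Y) : {K : Subgroup ↥(centralizer ({t} : Set X)) | IsComponent K} =
      up Y t ht '' {K | IsComponent K} := by
  ext K
  exact component_iff hp ht

theorem ncard_component {Y : Subgroup X} [Y.Normal] (hp : ∀ D : Subgroup X, ⁅D, D⁆ = D → D ≤ Y) {t : X}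
    (ht : t ∈ Y) : {K : Subgroup ↥(centralizer ({t} : Set X)) | IsComponent K}.ncard =
      {K : Subgroup ↥(centralizer ({(⟨t, ht⟩ : ↥Y)} : Set ↥Y)) | IsComponent K}.ncard := by
  rw [setOf_component hp ht, Set.ncard_image_of_injective _ (up_injective Y t ht)]

theorem no_component {Y : Subgroup X} [Y.Normal] {t : X} (ht : t ∈ Y)
    (h : layer ↥(centralizer ({t} : Set X)) = ⊥) (K : Subgroup ↥(centralizer ({(⟨t, ht⟩ : ↥Y)} : Set ↥Y))) :
    ¬ IsComponent K := by
  intro hK
  have h1 := up_component (ht := ht) hK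
  have h2 := component_le_layer h1
  rw [h, le_bot_iff] at h2
  exact component_ne_bot h1 h2

theorem layer_eq_bot_iff {G : Type*} [Group G] : layer G = ⊥ ↔ ∀ K : Subgroup G, ¬ IsComponent K := by
  constructor
  · intro h K hK
    have h2 := component_le_layer hK
    rw [h, le_bot_iff] at h2
    exact component_ne_bot hK h2
  · intro h
    rw [GenFitting.layer_def, sSup_eq_bot]
    intro K hK
    exact absurd hK (h K)

/-- if `C_Y(t)` is solvable and the perfect subgroups of `X` lie in `Y`, then `C_X(t)` is solvable -/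
theorem solvable_of_perfect [Finite X] {Y C : Subgroup X} (hp : ∀ D : Subgroup X, ⁅D, D⁆ = D → D ≤ Y)
    (h : ∀ D : Subgroup X, D ≤ C → D ≤ Y → ⁅D, D⁆ = D → D = ⊥) : Group.IsSolvable ↥C := by
  obtain ⟨D, hD, hDD, hDs⟩ := Schreier.Basic.exists_perfect_residual C
  exact hDs (h D hD (hp D hDD) hDD)

/-- `O(C) = 1` and `E(C) = 1` : `F*(C) = O_2(C)` -/
theorem genFitting_eq_pCore {C : Type*} [Group C] [Finite C] (hO : pPrimeCore 2 C = ⊥) (hL : layer C = ⊥) :
    generalizedFittingSubgroup C = pCore 2 C := by
  rw [GenFitting.genFitting_def, hL, bot_sup_eq, Cores.fittingSubgroup_eq_iSup_pCore]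
  apply le_antisymm
  · refine iSup_le fun q => ?_
    have : Fact (q : ℕ).Prime := ⟨q.2⟩
    by_cases hq : (q : ℕ) = 2
    · rw [hq]
    · have h1 : pCore (q : ℕ) C ≤ pPrimeCore 2 C := by
        refine Cores.le_pPrimeCore (Cores.pCore_normal _) ?_
        obtain ⟨k, hk⟩ := (IsPGroup.iff_card (p := (q : ℕ))).1 (Cores.pCore_isPGroup (G := C) (q : ℕ))
        rw [hk]
        exact Nat.Coprime.pow_left _ ((Nat.coprime_primes q.2 Nat.prime_two).2 hq)
      rw [hO, le_bot_iff] at h1
      rw [h1]
      exact bot_le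
  · exact le_iSup (fun q : Nat.Primes => pCore (q : ℕ) C) ⟨2, Nat.prime_two⟩

end Cfsg.Agent.H73.Red
end

-- part: H73/OddCent
section
/-!
# Centralisers of involutions in the groups of Lie type of odd characteristic: the perfect subgroups (helper73)

`OddCent p C` : the perfect subgroups of `C` are generated by `p`-elements, the `p`-elements centralise the normal
subgroups of odd order, the perfect subgroups centralise the normal 2-subgroups.
-/

set_option autoImplicit false

open Cfsg Subgroup

namespace Cfsg.Agent.H73.OC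

open Cfsg.Agent.Lib Cfsg.Agent.SignalizersComponents Cfsg.Agent.SignalizersComponents.Components
open Cfsg.Agent.FixBN

/-- Properties of the centralisers of involutions. -/
structure OddCent (p : ℕ) (C : Type*) [Group C] : Prop where
  out : ∀ L : Subgroup C, ⁅L, L⁆ = L → L ≤ Subgroup.closure {x | ∃ n : ℕ, x ^ p ^ n = 1}
  odd : ∀ W : Subgroup C, W.Normal → Odd (Nat.card W) → ∀ v : C, (∃ n : ℕ, v ^ p ^ n = 1) →
    ∀ x ∈ W, v * x = x * v
  two : ∀ W : Subgroup C, W.Normal → IsPGroup 2 W → ∀ L : Subgroup C, ⁅L, L⁆ = L →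
    ∀ g ∈ L, ∀ x ∈ W, g * x = x * g

theorem OddCent.congr {p : ℕ} {C D : Type*} [Group C] [Group D] (e : D ≃* C) (h : OddCent p C) :
    OddCent p D where
  out := by
    intro L hL x hx
    have h1 := h.out (L.map e.toMonoidHom) (by rw [← Subgroup.map_commutator, hL]) (mem_map_of_mem _ hx)
    have h2 : (Subgroup.closure {x : C | ∃ n : ℕ, x ^ p ^ n = 1}).map e.symm.toMonoidHom ≤
        Subgroup.closure {x : D | ∃ n : ℕ, x ^ p ^ n = 1} := by
      rw [map_le_iff_le_comap, Subgroup.closure_le]
      rintro y ⟨n, hn⟩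
      refine Subgroup.subset_closure ⟨n, ?_⟩
      change (e.symm y) ^ p ^ n = 1
      rw [← map_pow, hn, map_one]
    have h3 := h2 (mem_map_of_mem _ h1)
    change e.symm (e x) ∈ _ at h3
    rwa [e.symm_apply_apply] at h3
  odd := by
    intro W hW ho v ⟨n, hn⟩ x hx
    have hW' : (W.map e.toMonoidHom).Normal := hW.map _ e.surjective
    have ho' : Odd (Nat.card (W.map e.toMonoidHom)) := by
      rwa [Nat.card_congr (W.equivMapOfInjective e.toMonoidHom e.injective).toEquiv.symm]
    have h1 := h.odd _ hW' ho' (e v) ⟨n, by rw [← map_pow, hn, map_one]⟩ (e x) (mem_map_of_mem _ hx)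
    apply e.injective
    rw [map_mul, map_mul, h1]
  two := by
    intro W hW ho L hL g hg x hx
    have hW' : (W.map e.toMonoidHom).Normal := hW.map _ e.surjective
    have h1 := h.two _ hW' (ho.map _) (L.map e.toMonoidHom) (by rw [← Subgroup.map_commutator, hL])
      (e g) (mem_map_of_mem _ hg) (e x) (mem_map_of_mem _ hx)
    apply e.injective
    rw [map_mul, map_mul, h1]

theorem fixSub_conj {K : Type*} [Group K] (t : K) : Reduce.fixSub (MulAut.conj t) = centralizer ({t} : Set K) := by
  ext y
  rw [mem_centralizer_singleton_iff]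
  change t * y * t⁻¹ = y ↔ y * t = t * y
  rw [mul_inv_eq_iff_eq_mul]
  exact ⟨fun h => h.symm, fun h => h.symm⟩

/-- the good model -/
theorem oddCent_of_goodSplit {K : Type*} [Group K] [Finite K] {p : ℕ} [hp : Fact p.Prime] (hp2 : p ≠ 2)
    (h : HasGoodSplit p K) {t : K} (ht : t * t = 1) : OddCent p ↥(centralizer ({t} : Set K)) := by
  have hτ : ∀ g, MulAut.conj t (MulAut.conj t g) = g := by
    intro g
    rw [← MulAut.mul_apply, ← map_mul, ht, map_one, MulAut.one_apply]
  have hfix : ∀ g, g ∈ centralizer ({t} : Set K) ↔ MulAut.conj t g = g := by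
    intro g
    rw [← fixSub_conj]
    exact Iff.rfl
  have hLO := h.loAut hp2
  obtain ⟨P, U, _, hG⟩ := h
  refine ⟨?_, ?_, ?_⟩
  · intro L hL
    have h1 := hG.out hp2 (MulAut.conj t) hτ (L := L.map (centralizer ({t} : Set K)).subtype) (by
      rw [fixSub_conj]
      exact map_subtype_le L) (by rw [← Subgroup.map_commutator, hL])
    rw [fixSub_conj] at h1
    intro x hx
    have h2 := h1 (mem_map_of_mem (centralizer ({t} : Set K)).subtype hx)
    have h3 : PComponents.pElem p (centralizer ({t} : Set K)) ≤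
        (Subgroup.closure {x : ↥(centralizer ({t} : Set K)) | ∃ n : ℕ, x ^ p ^ n = 1}).map
          (centralizer ({t} : Set K)).subtype := by
      refine (Subgroup.closure_le _).2 ?_
      rintro y ⟨hy, n, hn⟩
      exact ⟨⟨y, hy⟩, Subgroup.subset_closure ⟨n, Subtype.ext hn⟩, rfl⟩
    obtain ⟨z, hz, hzx⟩ := h3 h2
    have h4 : z = x := Subtype.ext hzx
    rwa [h4] at hz
  · intro W hW ho v ⟨n, hn⟩ x hx
    have h1 := (fix_of_split hp2 hG.toSplit (MulAut.conj t) hτ (X := W.map (centralizer ({t} : Set K)).subtype)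
      (by
        rintro _ ⟨w, _, rfl⟩
        exact (hfix _).1 w.2) (by
        rintro g hg _ ⟨w, hw, rfl⟩
        exact ⟨_, hW.conj_mem w hw ⟨g, (hfix g).2 hg⟩, rfl⟩) (by
        rwa [← Nat.card_congr (W.equivMapOfInjective _ (subtype_injective _)).toEquiv])).2 (v : K)
      ((hfix _).1 v.2) ⟨n, by rw [← coe_pow, hn, coe_one]⟩ (x : K) (mem_map_of_mem _ hx)
    exact Subtype.ext h1
  · intro W hW h2 L hL g hg x hx
    have h1 := hLO (MulAut.conj t) hτ (W.map (centralizer ({t} : Set K)).subtype)
      (L.map (centralizer ({t} : Set K)).subtype) (by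
        rw [fixSub_conj]
        exact map_subtype_le W) (by
        rw [fixSub_conj]
        rintro g hg _ ⟨w, hw, rfl⟩
        exact ⟨_, hW.conj_mem w hw ⟨g, hg⟩, rfl⟩) (h2.map _) (by
        rw [fixSub_conj]
        exact map_subtype_le L) (by rw [← Subgroup.map_commutator, hL]) (g : K) (mem_map_of_mem _ hg) (x : K)
        (mem_map_of_mem _ hx)
    exact Subtype.ext h1

/-- the centralisers of corresponding elements -/
def centCongr {G H : Type*} [Group G] [Group H] (e : G ≃* H) (t : G) :
    ↥(centralizer ({t} : Set G)) ≃* ↥(centralizer ({e t} : Set H)) where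
  toFun c := ⟨e c, mem_centralizer_singleton_iff.2 (by
    rw [← map_mul, mem_centralizer_singleton_iff.1 c.2, map_mul])⟩
  invFun c := ⟨e.symm c, mem_centralizer_singleton_iff.2 (by
    apply e.injective
    rw [map_mul, map_mul, e.apply_symm_apply, mem_centralizer_singleton_iff.1 c.2])⟩
  left_inv c := Subtype.ext (e.symm_apply_apply _)
  right_inv c := Subtype.ext (e.apply_symm_apply _)
  map_mul' a b := Subtype.ext (map_mul e _ _)

/-- **Lie type of odd characteristic.** -/
theorem oddCent {p : ℕ} (hp2 : p ≠ 2) {G : Type*} [Group G] [IsSimpleGroup G] (hG : IsLieTypeChar p G)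
    {t : G} (ht : t * t = 1) :
    OddCent p ↥(centralizer ({t} : Set G)) ∨ Lie.IsoRee G := by
  rcases exists_good_model hp2 hG with ⟨K, _, _, _, _, h, ⟨e⟩⟩ | h
  · left
    exact (oddCent_of_goodSplit hp2 h (t := e t) (by rw [← map_mul, ht, map_one])).congr (centCongr e t)
  · exact Or.inr h

/-- the perfect subgroups centralise the Fitting subgroup -/
theorem OddCent.comm_fitting {p : ℕ} {C : Type*} [Group C] [Finite C] (h : OddCent p C) {L : Subgroup C}
    (hL : ⁅L, L⁆ = L) : L ≤ centralizer (fittingSubgroup C : Set C) := by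
  rw [Cores.fittingSubgroup_eq_iSup_pCore, le_centralizer_iff]
  refine iSup_le fun q => ?_
  have : Fact (q : ℕ).Prime := ⟨q.2⟩
  rw [le_centralizer_iff]
  by_cases hq : (q : ℕ) = 2
  · intro g hg
    rw [mem_centralizer_iff]
    intro x hx
    exact (h.two _ (Cores.pCore_normal (q : ℕ)) (by rw [← hq]; exact Cores.pCore_isPGroup _) L hL g hg x hx).symm
  · refine (h.out L hL).trans ((Subgroup.closure_le _).2 ?_)
    intro v hv
    rw [SetLike.mem_coe, mem_centralizer_iff]
    intro x hx
    refine (h.odd _ (Cores.pCore_normal (q : ℕ)) ?_ v hv x hx).symm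
    obtain ⟨k, hk⟩ := (IsPGroup.iff_card (p := (q : ℕ))).1 (Cores.pCore_isPGroup (G := C) (q : ℕ))
    rw [hk]
    exact (q.2.odd_of_ne_two hq).pow

/-- no component: the perfect subgroups are trivial -/
theorem OddCent.eq_bot {p : ℕ} {C : Type*} [Group C] [Finite C] (h : OddCent p C)
    (hC : ∀ K : Subgroup C, ¬ IsComponent K) {L : Subgroup C} (hL : ⁅L, L⁆ = L) : L = ⊥ := by
  have h1 := h.comm_fitting hL
  have h2 : L ≤ fittingSubgroup C := by
    have h3 := GenFitting.centralizer_genFitting_le (G := C)
    rw [GenFitting.genFitting_def, Red.layer_eq_bot_iff.2 hC, bot_sup_eq] at h3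
    exact h1.trans h3
  have h3 : Group.IsNilpotent ↥(fittingSubgroup C) := Cores.fittingSubgroup_isNilpotent
  have h4 : Group.IsSolvable ↥L :=
    Group.isSolvable_of_isSolvable_injective (f := inclusion h2) (inclusion_injective h2)
  exact Schreier.Basic.eq_bot_of_perfect_of_solvable hL h4

end Cfsg.Agent.H73.OC
end
end

-- part: H73/One
section
set_option linter.all false
open scoped Cfsg.Agent.FastGrp

/-!
# Groups with at most one component and solvable quotient (helper73)

* `HasOne C` : a normal quasisimple subgroup with solvable quotient;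
* `OneComp C` : no component, or `HasOne C`.
-/

set_option autoImplicit false

open Cfsg Subgroup

namespace Cfsg.Agent.H73

open Cfsg.Agent.Lib Cfsg.Agent.SignalizersComponents Cfsg.Agent.SignalizersComponents.Components

/-- a normal quasisimple subgroup with solvable quotient -/
def HasOne (C : Type*) [Group C] : Prop :=
  ∃ (K : Subgroup C) (_ : K.Normal), IsQuasisimple ↥K ∧ Group.IsSolvable (C ⧸ K)

/-- no component, or a normal quasisimple subgroup with solvable quotient -/
def OneComp (C : Type*) [Group C] : Prop :=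
  (∀ K : Subgroup C, ¬ IsComponent K) ∨ HasOne C

theorem HasOne.congr {C D : Type*} [Group C] [Group D] (e : C ≃* D) (h : HasOne C) : HasOne D := by
  obtain ⟨K, hK, hq, hs⟩ := h
  have hn : (K.map (e : C →* D)).Normal := hK.map _ e.surjective
  refine ⟨K.map (e : C →* D), hn, ?_, ?_⟩
  · exact isQuasisimple_of_mulEquiv (K.equivMapOfInjective (e : C →* D) e.injective) hq
  · exact Group.isSolvable_of_surjective (f := (QuotientGroup.congr K (K.map (e : C →* D)) e rfl).toMonoidHom)
      (QuotientGroup.congr K _ e rfl).surjective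

theorem OneComp.congr {C D : Type*} [Group C] [Group D] (e : C ≃* D) (h : OneComp C) : OneComp D := by
  rcases h with h | h
  · left
    intro K hK
    exact h _ (isComponent_map_equiv e.symm hK)
  · exact Or.inr (h.congr e)

/-- a perfect subgroup lies in a normal subgroup with solvable quotient -/
theorem le_of_solvable {C : Type*} [Group C] {N : Subgroup C} (hn : N.Normal) (hs : Group.IsSolvable (C ⧸ N))
    {L : Subgroup C} (hL : ⁅L, L⁆ = L) : L ≤ N := by
  intro x hx
  have h1 := Schreier.Basic.apply_eq_one_of_perfect (QuotientGroup.mk' N) hL hx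
  exact (QuotientGroup.eq_one_iff x).1 h1

theorem HasOne.component_iff {C : Type*} [Group C] {K : Subgroup C} (hn : K.Normal) (hq : IsQuasisimple ↥K)
    (hs : Group.IsSolvable (C ⧸ K)) (L : Subgroup C) : IsComponent L ↔ L = K := by
  have hK : IsComponent K := ⟨Subgroup.Normal.isSubnormal hn, hq⟩
  constructor
  · intro hL
    by_contra hne
    have h1 := component_commutator_eq_bot_of_ne hL hK hne
    have h2 : L ≤ K := le_of_solvable hn hs (component_commutator_self hL)
    have h3 : ⁅L, L⁆ ≤ ⁅L, K⁆ := commutator_mono le_rfl h2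
    rw [h1, component_commutator_self hL, le_bot_iff] at h3
    exact component_ne_bot hL h3
  · rintro rfl
    exact hK

theorem HasOne.layer_eq {C : Type*} [Group C] {K : Subgroup C} (hn : K.Normal) (hq : IsQuasisimple ↥K)
    (hs : Group.IsSolvable (C ⧸ K)) : layer C = K := by
  rw [GenFitting.layer_def]
  have h : {L : Subgroup C | IsComponent L} = {K} := by
    ext L
    exact HasOne.component_iff hn hq hs L
  rw [h, sSup_singleton]

theorem HasOne.layer {C : Type*} [Group C] (h : HasOne C) :
    (Cfsg.layer C).Normal ∧ IsQuasisimple ↥(Cfsg.layer C) ∧ Cfsg.layer C ≠ ⊥ ∧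
      ∀ _ : (Cfsg.layer C).Normal, Group.IsSolvable (C ⧸ Cfsg.layer C) := by
  obtain ⟨K, hn, hq, hs⟩ := h
  have h1 := HasOne.layer_eq hn hq hs
  subst h1
  exact ⟨hn, hq, component_ne_bot ⟨Subgroup.Normal.isSubnormal hn, hq⟩, fun _ => hs⟩

/-- a direct product of a solvable group and a quasisimple group -/
theorem hasOne_prod {A L : Type*} [Group A] [Group L] (hA : Group.IsSolvable A) (hL : IsQuasisimple L) :
    HasOne (A × L) := by
  refine ⟨(MonoidHom.fst A L).ker, inferInstance, ?_, ?_⟩
  · let e : L ≃* ↥(MonoidHom.fst A L).ker :=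
      { toFun := fun l => ⟨(1, l), rfl⟩
        invFun := fun x => (x : A × L).2
        left_inv := fun _ => rfl
        right_inv := fun x => Subtype.ext (Prod.ext (MonoidHom.mem_ker.1 x.2).symm rfl)
        map_mul' := fun a b => Subtype.ext (Prod.ext (one_mul 1).symm rfl) }
    exact isQuasisimple_of_mulEquiv e hL
  · exact Group.isSolvable_of_isSolvable_injective
      (f := (QuotientGroup.quotientKerEquivRange (MonoidHom.fst A L)).toMonoidHom)
      (QuotientGroup.quotientKerEquivRange (MonoidHom.fst A L)).injective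

/-! ### The small Ree groups -/

theorem ree_cent {G : Type*} [Group G] (h : Lie.IsoRee G) {t : G} (ht : t * t = 1) (ht1 : t ≠ 1) :
    HasOne ↥(centralizer ({t} : Set G)) := by
  obtain ⟨K, _, _, m, hm, hK, ⟨e0⟩⟩ := h
  classical
  have hchar := Cfsg.Agent.LieRecognition.ReeAbs.charP_three hK
  obtain ⟨a, haH, ha1, ha2⟩ := Cfsg.Agent.S1157.exists_involution hK
  obtain ⟨⟨e⟩, hS⟩ := Cfsg.Agent.S1152.result hK a haH ha1 ha2
  have hcd := Cfsg.Agent.LieRecognition.ReeCent.centData ha1 ha2 e Cfsg.Agent.LieRecognition.ReePSL.klein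
  have hL : IsSimpleGroup (Matrix.ProjectiveSpecialLinearGroup (Fin 2) K) := by
    apply Matrix.ProjectiveSpecialLinearGroup.rank_two_simple
    rw [Nat.card_eq_fintype_card, hK]
    have : 3 ^ 3 ≤ 3 ^ (2 * m + 1) := Nat.pow_le_pow_right (by norm_num) (by omega)
    omega
  have hLna : ¬ IsMulCommutative (Matrix.ProjectiveSpecialLinearGroup (Fin 2) K) := by
    refine GTwoRows.not_comm_psl ?_
    rw [hK]
    have : 3 ^ 3 ≤ 3 ^ (2 * m + 1) := Nat.pow_le_pow_right (by norm_num) (by omega)
    omega
  obtain ⟨c, hc⟩ := Cfsg.Agent.LieRecognition.ReeInv.isConj_involution hcd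
    Cfsg.Agent.LieRecognition.ReePSL.klein (Cfsg.Agent.S1116.result hK hm) hS (t := e0 t)
    (fun h => ht1 (by rwa [← e0.map_one, e0.injective.eq_iff] at h)) (by rw [← map_mul, ht, map_one])
  have h1 : HasOne (Multiplicative (ZMod 2) × Matrix.ProjectiveSpecialLinearGroup (Fin 2) K) :=
    hasOne_prod inferInstance (CTwoTab.isQuasisimple_of_simple hLna)
  have h2 := h1.congr e.symm
  have h3 := h2.congr (OC.centCongr (MulAut.conj c) a)
  have h4 : (MulAut.conj c) a = e0 t := hc
  rw [h4] at h3
  exact h3.congr (OC.centCongr e0 t).symm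

end Cfsg.Agent.H73
end

-- part: H73/Alt
section
set_option linter.all false
open scoped Cfsg.Agent.FastGrp

/-!
# Centralisers of involutions in alternating groups (helper73)
-/

set_option autoImplicit false

open Cfsg Subgroup

namespace Cfsg.Agent.H73.Alt

open Equiv Equiv.Perm
open Cfsg.Agent.GenType (Mv Fx rho ker_rho kerEquiv card_moved card_split)
open Cfsg.Agent.SignalizersComponents.Components

section Perm

variable {α : Type*} [DecidableEq α]

theorem fix_of_pow {w : Perm α} (hw : Odd (orderOf w)) {j : ℕ} {a : α} (h : (w ^ 2 ^ j) a = a) : w a = a := by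
  have h1 : (2 ^ j).Coprime (orderOf w) := by
    apply Nat.Coprime.pow_left
    rwa [Nat.coprime_two_left]
  obtain ⟨m, hm⟩ := exists_pow_eq_self_of_coprime h1
  have h2 : w ^ 2 ^ j ∈ MulAction.stabilizer (Perm α) a := h
  have h3 := pow_mem h2 m
  rw [hm] at h3
  exact h3

theorem swap_comm_swap {s : Perm α} (hs : ∀ a, s (s a) = a) (x y : α) :
    swap x (s x) * swap y (s y) = swap y (s y) * swap x (s x) := by
  have h : swap x (s x) * swap y (s y) * (swap x (s x))⁻¹ = swap y (s y) := by
    rw [← Equiv.swap_apply_apply]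
    by_cases h1 : y = x
    · subst h1
      rw [swap_apply_left, swap_apply_right, swap_comm]
    · by_cases h2 : y = s x
      · rw [h2, swap_apply_right, hs, swap_apply_left, swap_comm]
      · have h3 : s y ≠ x := fun h => h2 (by rw [← h, hs])
        have h4 : s y ≠ s x := fun h => h1 (s.injective h)
        rw [swap_apply_of_ne_of_ne h1 h2, swap_apply_of_ne_of_ne h3 h4]
  rwa [mul_inv_eq_iff_eq_mul] at h

/-- **Odd order**: `W` of odd order, normalised by `C_{A_n}(s)` and centralising `s`, is trivial on the points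
moved by the involution `s`. -/
theorem fix_of_odd [Fintype α] {s : Perm α} (hs : ∀ a, s (s a) = a) {W : Subgroup (Perm α)} (hW : Odd (Nat.card W))
    (hWs : ∀ w ∈ W, w * s = s * w)
    (hWn : ∀ β ∈ alternatingGroup α, β * s = s * β → ∀ w ∈ W, β * w * β⁻¹ ∈ W) {w : Perm α} (hw : w ∈ W) {a : α}
    (ha : s a ≠ a) : w a = a := by
  have hodd : ∀ v ∈ W, Odd (orderOf v) := by
    intro v hv
    have h1 : orderOf v ∣ Nat.card W := by
      have := orderOf_dvd_natCard (⟨v, hv⟩ : ↥W)
      rwa [← Subgroup.orderOf_coe] at this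
    exact Odd.of_dvd_nat hW h1
  have hws : ∀ x, w (s x) = s (w x) := fun x => congrArg (fun f : Perm α => f x) (hWs w hw)
  by_cases hc : w a = a
  · exact hc
  by_cases hb : w a = s a
  · refine fix_of_pow (hodd w hw) (j := 1) ?_
    change (w ^ 2) a = a
    rw [pow_two, mul_apply, hb, hws, hb, hs]
  -- the element `β`
  obtain ⟨c, hc'⟩ : ∃ c, w a = c := ⟨_, rfl⟩
  have hd : w (s a) = s c := by rw [hws, hc']
  rw [hc'] at hc hb
  have hsc : s c ≠ c := by
    intro h
    rw [← hc', ← hws] at h
    exact ha (w.injective h)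
  have hβs : (swap a (s a) * swap c (s c)) * s = s * (swap a (s a) * swap c (s c)) := by
    have h1 : ∀ x, s * swap x (s x) * s⁻¹ = swap x (s x) := by
      intro x
      rw [← Equiv.swap_apply_apply, hs, swap_comm]
    have h2 : ∀ x, s * swap x (s x) = swap x (s x) * s := by
      intro x
      have := h1 x
      rwa [mul_inv_eq_iff_eq_mul] at this
    rw [mul_assoc, ← h2 c, ← mul_assoc, ← h2 a, mul_assoc]
  have hβA : (swap a (s a) * swap c (s c)) ∈ alternatingGroup α := by
    rw [mem_alternatingGroup, Perm.sign_mul, sign_swap (Ne.symm ha), sign_swap (Ne.symm hsc)]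
    decide
  have h1 := hWn _ hβA hβs _ (W.inv_mem hw)
  have h2 := W.mul_mem hw h1
  have h3 : w * (swap a (s a) * swap c (s c) * w⁻¹ * (swap a (s a) * swap c (s c))⁻¹) =
      swap (w c) (s (w c)) * swap a (s a) := by
    have e1 : w * (swap a (s a) * swap c (s c) * w⁻¹ * (swap a (s a) * swap c (s c))⁻¹) =
        (w * swap a (s a) * w⁻¹) * (w * swap c (s c) * w⁻¹) * (swap a (s a) * swap c (s c))⁻¹ := by group
    rw [e1, ← Equiv.swap_apply_apply, ← Equiv.swap_apply_apply, hc', hd, hws c, mul_inv_rev, swap_inv, swap_inv]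
    rw [← mul_assoc, mul_assoc (swap c (s c)), swap_comm_swap hs (w c) c, ← mul_assoc, swap_mul_self, one_mul]
  rw [h3] at h2
  have h4 : (swap (w c) (s (w c)) * swap a (s a)) * (swap (w c) (s (w c)) * swap a (s a)) = 1 := by
    rw [mul_assoc, ← mul_assoc (swap a (s a)), swap_comm_swap hs a (w c), mul_assoc, swap_mul_self, mul_one,
      swap_mul_self]
  have h5 : swap (w c) (s (w c)) * swap a (s a) = 1 := by
    have h6 : orderOf (swap (w c) (s (w c)) * swap a (s a)) ∣ 2 :=
      orderOf_dvd_of_pow_eq_one (by rw [pow_two]; exact h4)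
    have h7 := hodd _ h2
    rcases (Nat.dvd_prime Nat.prime_two).1 h6 with h8 | h8
    · exact orderOf_eq_one_iff.1 h8
    · rw [h8] at h7
      exact absurd h7 (by decide)
  have h6 : swap (w c) (s (w c)) = swap a (s a) := by
    rw [← mul_left_inj (swap a (s a)), h5, swap_mul_self]
  have hswc : s (w c) ≠ w c := by
    rw [← hws]
    exact fun h => hsc (w.injective h)
  have h7 : w c = a ∨ w c = s a := by
    by_contra hcon
    push Not at hcon
    have h8 : swap (w c) (s (w c)) (w c) = swap a (s a) (w c) := by rw [h6]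
    rw [swap_apply_left, swap_apply_of_ne_of_ne hcon.1 hcon.2] at h8
    exact hswc h8
  rcases h7 with h7 | h7
  · refine fix_of_pow (hodd w hw) (j := 1) ?_
    change (w ^ 2) a = a
    rw [pow_two, mul_apply, hc', h7]
  · refine fix_of_pow (hodd w hw) (j := 2) ?_
    have e : w ^ 2 ^ 2 = w * (w * (w * w)) := by
      rw [show (2 : ℕ) ^ 2 = 4 by norm_num]
      simp only [pow_succ, pow_zero, one_mul, mul_assoc]
    rw [e]
    change w (w (w (w a))) = a
    rw [hc', h7, hd, hws, h7, hs]

/-- a group of permutations trivial off the fixed points of `s` -/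
theorem card_dvd [Fintype α] {s : Perm α} (hs : ∀ a, s (s a) = a) {W : Subgroup (Perm α)}
    (hWs : ∀ w ∈ W, w * s = s * w) (h : ∀ w ∈ W, ∀ a, s a ≠ a → w a = a) :
    Nat.card W ∣ (Fintype.card {i : α // s i = i}).factorial := by
  let f : ↥W →* Perm {i : α // s i = i} :=
    { toFun := fun w => (w : Perm α).subtypePerm (fun i => by
        have h1 : (w : Perm α) (s i) = s ((w : Perm α) i) := congrArg (fun f : Perm α => f i) (hWs w w.2)
        rw [← h1]
        exact (w : Perm α).injective.eq_iff)
      map_one' := by ext i; rfl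
      map_mul' := fun a b => by ext i; rfl }
  have hf : Function.Injective f := by
    rw [injective_iff_map_eq_one]
    intro w hw
    apply Subtype.ext
    ext i
    by_cases hi : s i = i
    · exact congrArg (fun g : Perm {i : α // s i = i} => ((g ⟨i, hi⟩ : {i : α // s i = i}) : α)) hw
    · exact h w w.2 i hi
  have h1 := Subgroup.card_dvd_of_injective f hf
  rwa [Nat.card_perm, Nat.card_eq_fintype_card (α := {i : α // s i = i})] at h1

end Perm

/-- at least five fixed points: a component -/
theorem component_ker {n : ℕ} (x : alternatingGroup (Fin n)) (h5 : 5 ≤ Fintype.card (Fx x)) :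
    IsComponent (rho x).ker := by
  have h5' : 5 ≤ Nat.card (Fx x) := by rw [Nat.card_eq_fintype_card]; exact h5
  have hs1 : IsSimpleGroup (alternatingGroup (Fx x)) := alternatingGroup.isSimpleGroup h5'
  have hs2 : IsSimpleGroup ↥(rho x).ker := (MulEquiv.isSimpleGroup_congr (kerEquiv x)).1 hs1
  have e2 : alternatingGroup (Fx x) ≃* alternatingGroup (Fin (Fintype.card (Fx x))) :=
    (Fintype.equivFin (Fx x)).altCongrHom
  refine ⟨Subgroup.Normal.isSubnormal inferInstance, CTwoTab.quasi_alt h5 ((kerEquiv x).symm.trans e2)⟩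

end Cfsg.Agent.H73.Alt
end
end
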