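import Mathlib
import Cfsg.Prelude.Def_Classification2
import Cfsg.Agent.FixBN.GatesBldg
import Cfsg.Agent.SignalizersComponents.Components
import Cfsg.Agent.SignalizersComponents.CompBasic
import Cfsg.Agent.S0542
import Cfsg.Agent.BpTab.Base
import Cfsg.Agent.H73.One_m3
import Cfsg.Agent.H12.CompQ
import Cfsg.Prelude.Def_EvenType
import Cfsg.Agent.CTwoTab.Tower
import Cfsg.Agent.CTwoTab.Base
import Cfsg.Agent.CTwoTab.OfLarge
import Cfsg.Agent.EvenType.CharTwoCent
import Cfsg.Agent.CTwoTab.Co1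
import Cfsg.Agent.CTwoTab.HN
import Cfsg.Agent.H237.EvenFi
import Cfsg.Agent.CTwoTab.He
import Cfsg.Agent.OddHalf.Small.Plug
import Cfsg.Agent.OddHalf.Small.Mathieu
import Cfsg.Agent.OddHalf.Small.M24Char
import Cfsg.Agent.KFacts.MM.OutC_m3
import Cfsg.Agent.SevenCases.SporJ4
import Cfsg.Agent.SevenCases.SporCo2
import Cfsg.Agent.SevenCases.SporTh
import Cfsg.Agent.H7.JOneStd
import Cfsg.Agent.H393.Iso.J23
import Cfsg.Agent.CTwoTab.Monster
import Cfsg.Agent.CTwoTab.Fi22
import Cfsg.Agent.CoThreeStd.MTwelveCent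
import Cfsg.Agent.S0061
import Cfsg.Agent.CTwoTab.Kinds
import Cfsg.Agent.Wreath.AZeroMain_m3
import Cfsg.Agent.TypeM.FactsMcL
import Cfsg.Agent.TypeM.FactsLy
import Cfsg.Agent.CTwoTab.Co3
import Cfsg.Agent.OddHalf.D8.SheetMap_m3
import Cfsg.Agent.KFacts.ON.Words_m3
import Cfsg.Agent.CTwoTab.Ru
import Cfsg.Agent.CTwoTab.Suz
import Cfsg.Agent.CTwoTab.Fi23Fin
import Cfsg.Agent.H340.BabyTe
import Cfsg.Agent.BabyComp.BaseTwo
import Cfsg.Agent.H12.KSch
import Cfsg.Agent.CTwoTab.HS
import Cfsg.Agent.FastGrp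
import Cfsg.Agent.Prune
set_option linter.all false

section
prune_inst 0x7ffcfefbaff8bddfffff7e7fffffdffffdfdffffefdffffbfffdffffafdf6b6ffff5fbafffef58ffbff6f21cb2f87bdbfbffee7fe3fbdc7fffff5ffc7fffff9ffffffd2f79ffbcbe1ffe6ffffbf9ffcf7f3fffffffffffffffffffffffffffffffffffffffff

-- part: H73/NComp
section
prune_inst 0x180000000000000000010000000000000005020000000020010001084004001018204020020000000800c00038000000000000000000000028004000001000010000406003080c00000000000000000000000000000000000000000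
set_option linter.all false
open scoped Cfsg.Agent.FastGrp

-- part: H73/GatesComp
section
/-!
# Chamber systems with gates and the components (helper73)

`H` a finite group with a chamber system with gates on its Sylow `p`-subgroups (`FixBN.Gates.GSys`), such that an
element of two chambers of a panel lies in all chambers of the panel (`Reg`), and the normaliser of a Sylow
`p`-subgroup is solvable. Then

* `perfect_le_sup` : every perfect subgroup lies in `X C_H(X)` for every normal `p'`-subgroup `X`;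
* `perfect_le_normalizer` : every perfect subgroup normalises every component.
-/

set_option autoImplicit false
set_option linter.unusedSectionVars false

open scoped Pointwise commutatorElement

namespace Cfsg.Agent.H73.GC

open Cfsg.Agent.FixBN.Gates Cfsg.Agent.FixBN.Gates.GSys
open Cfsg.Agent.SignalizersComponents Cfsg.Agent.SignalizersComponents.Components

variable {H : Type*} [Group H] {p : ℕ}
variable {Pa : Set (Set (Sylow p H))} {d : Sylow p H → Sylow p H → ℕ}

/-- An element of two chambers of a panel lies in all chambers of the panel. -/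
def Reg (Pa : Set (Set (Sylow p H))) : Prop :=
  ∀ S ∈ Pa, ∀ a ∈ S, ∀ b ∈ S, a ≠ b → ∀ u ∈ a, u ∈ b → ∀ c ∈ S, u ∈ c

/-! ### Normal `p'`-subgroups -/

section Cop

variable [Finite H] {X : Subgroup H} [hX : X.Normal] [hp : Fact p.Prime]

include hX hp in
/-- an element of `X` centralises the intersection of a Sylow subgroup with its conjugate -/
theorem comm_of_mem (hc2 : (Nat.card X).Coprime p) {a : Sylow p H} {c k : H}
    (hc : c ∈ X) (hk : k ∈ a) (hk' : k ∈ (c • a : Sylow p H)) : c * k = k * c := by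
  have h1 : c * k * c⁻¹ * k⁻¹ ∈ (c • a : Sylow p H) := by
    refine mul_mem ?_ (inv_mem hk')
    rw [mem_smul_iff]
    have e : c⁻¹ * (c * k * c⁻¹) * c = k := by group
    rw [e]
    exact hk
  have h3 : c * k * c⁻¹ * k⁻¹ ∈ X := by
    have e : c * k * c⁻¹ * k⁻¹ = c * (k * c⁻¹ * k⁻¹) := by group
    rw [e]
    exact mul_mem hc (hX.conj_mem _ (inv_mem hc) k)
  have h4 : Disjoint X ((c • a : Sylow p H) : Subgroup H) := by
    refine Subgroup.disjoint_of_coprime_natCard ?_
    obtain ⟨n, hn⟩ := (IsPGroup.iff_card (p := p)).1 (c • a : Sylow p H).isPGroup'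
    rw [hn]
    exact hc2.pow_right n
  have h5 := Subgroup.disjoint_def.1 h4 h3 h1
  calc c * k = (c * k * c⁻¹ * k⁻¹) * (k * c) := by group
    _ = k * c := by rw [h5, one_mul]

include hX hp in
theorem stab (hG : GSys Pa d) (hc2 : (Nat.card X).Coprime p) {S : Set (Sylow p H)}
    (hS : S ∈ Pa) {a : Sylow p H} {c : H} (hc : c ∈ X) (ha : a ∈ S) (hca : c • a ∈ S) :
    c • S = S := by
  obtain ⟨K, hK⟩ := hG.ker S hS
  have hcomm : ∀ k ∈ K, c * k = k * c := fun k hk =>
    comm_of_mem hc2 hc ((hK a).1 ha hk) ((hK _).1 hca hk)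
  have h1 : ∀ b ∈ S, c • b ∈ S := by
    intro b hb
    rw [hK] at hb ⊢
    intro k hk
    change k ∈ (c • b : Sylow p H)
    rw [mem_smul_iff]
    have e : c⁻¹ * k * c = k := by
      rw [mul_assoc, ← hcomm k hk]; group
    rw [e]
    exact hb hk
  have h3 : ∀ b ∈ S, c⁻¹ • b ∈ S := by
    intro b hb
    rw [hK] at hb ⊢
    intro k hk
    change k ∈ (c⁻¹ • b : Sylow p H)
    rw [mem_smul_iff]
    have e : c⁻¹⁻¹ * k * c⁻¹ = k := by
      rw [inv_inv, hcomm k hk]; group
    rw [e]
    exact hb hk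
  ext b
  constructor
  · rintro ⟨b', hb', rfl⟩
    exact h1 b' hb'
  · intro hb
    exact ⟨c⁻¹ • b, h3 b hb, smul_inv_smul c b⟩

include hX in
/-- a panel which is not moved, from stability -/
theorem star (hG : GSys Pa d) {S : Set (Sylow p H)} (hS : S ∈ Pa)
    (hst : ∀ a ∈ S, ∀ c ∈ X, c • a ∈ S → c • S = S)
    (hM : ¬ Mv X S) {a : Sylow p H} {c : H} (hc : c ∈ X) (hca : c • a ∈ S) :
    Gate a S (c • a) := by
  obtain ⟨c1, hc1, hg⟩ := hG.gate S hS a
  by_cases hne : c1 = c • a
  · rw [← hne]; exact hg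
  exfalso
  obtain ⟨e, he, he1, he2⟩ := hG.three S hS c1 hc1 _ hca
  obtain ⟨u, hu, huS, hue⟩ := hg.tr _ hca e he (Ne.symm hne) he1
  have h1 : (u * c * u⁻¹ * c⁻¹) • (c • a) = e := by
    rw [← mul_smul]
    have e1 : u * c * u⁻¹ * c⁻¹ * c = u * c * u⁻¹ := by group
    rw [e1, mul_smul, mul_smul, inv_smul_self hu, hue]
  have h3 : u * c * u⁻¹ * c⁻¹ ∈ X := mul_mem (hX.conj_mem c hc u) (inv_mem hc)
  refine hM ⟨_, h3, hst _ hca _ h3 (by rw [h1]; exact he), _, hca, ?_⟩
  rw [h1]
  exact he2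

include hX hp in
theorem key4 (hG : GSys Pa d) {S : Set (Sylow p H)} (hS : S ∈ Pa)
    (hst : ∀ a ∈ S, ∀ c ∈ X, c • a ∈ S → c • S = S)
    (hM : ¬ Mv X S) {a : Sylow p H} (ha : a ∈ S) {c : H} (hc : c ∈ X)
    {b b' : Sylow p H} (hb : b ∈ S) (hb' : b' ∈ S) (hba : b ≠ a) (hba' : b' ≠ a) :
    ∃ u ∈ a, u ∈ (c • a : Sylow p H) ∧ u • b = b' := by
  have h1 := star hG hS hst hM (a := c • a) (c := c⁻¹) (inv_mem hc)
    (by rw [inv_smul_smul]; exact ha)
  rw [inv_smul_smul] at h1
  obtain ⟨u, hu, huS, hub⟩ := h1.tr b hb b' hb' hba hba'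
  exact ⟨u, mem_of_smul_eq hu (h1.fix u hu huS), hu, hub⟩

/-- (R) an element of `a` fixing a second point of a panel is trivial on the panel. -/
theorem regular (hR : Reg Pa) {S : Set (Sylow p H)} (hS : S ∈ Pa) {a : Sylow p H} (ha : a ∈ S)
    {b : Sylow p H} (hb : b ∈ S) (hba : b ≠ a) {k : H} (hk : k ∈ a) (hkb : k • b = b) :
    ∀ e ∈ S, k • e = e :=
  fun e he => smul_self (hR S hS a ha b hb (Ne.symm hba) k hk (mem_of_smul_eq hk hkb) e he)

include hX hp in
/-- There is an element `c` of `X` such that `a ⊓ c • a` centralises `X`. -/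
theorem exists_min (hG : GSys Pa d) (hR : Reg Pa) (hc2 : (Nat.card X).Coprime p) (a : Sylow p H) :
    ∃ c ∈ X, ∀ k ∈ a, k ∈ (c • a : Sylow p H) → ∀ x ∈ X, k * x = x * k := by
  classical
  have hex : ∃ n, ∃ c ∈ X, Nat.card ↥((a : Subgroup H) ⊓ ((c • a : Sylow p H) : Subgroup H)) = n :=
    ⟨_, 1, one_mem _, rfl⟩
  obtain ⟨c, hc, hn⟩ := Nat.find_spec hex
  have hmin : ∀ c' ∈ X, Nat.card ↥((a : Subgroup H) ⊓ ((c • a : Sylow p H) : Subgroup H)) ≤
      Nat.card ↥((a : Subgroup H) ⊓ ((c' • a : Sylow p H) : Subgroup H)) :=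
    fun c' hc' => by rw [hn]; exact Nat.find_min' hex ⟨c', hc', rfl⟩
  clear hn
  -- `V = a ⊓ c • a` is trivial on the moved panels through `a`
  have hV : ∀ S ∈ Pa, Mv X S → a ∈ S → ∀ k ∈ a, k ∈ (c • a : Sylow p H) → ∀ e ∈ S, k • e = e := by
    intro S hS hM ha k hk hk' b hb
    obtain ⟨c1, hc1, hg⟩ := hG.gate S hS (c • a)
    by_cases hne : c1 = a
    · rw [hne] at hg
      by_contra hkb
      have hba : b ≠ a := by
        intro h; rw [h] at hkb; exact hkb (smul_self hk)
      obtain ⟨e, he, heS, hea⟩ := hM.tr hG hS ha hb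
      have hle : (b : Subgroup H) ⊓ ((c • a : Sylow p H) : Subgroup H) ≤
          (a : Subgroup H) ⊓ ((c • a : Sylow p H) : Subgroup H) := by
        intro x hx
        have hxb : x ∈ b := hx.1
        have hxc : x ∈ (c • a : Sylow p H) := hx.2
        have h1 := hg.fix x hxc (hG.self S hS b hb x hxb)
        exact ⟨mem_of_smul_eq hxc h1, hxc⟩
      have hlt : (b : Subgroup H) ⊓ ((c • a : Sylow p H) : Subgroup H) <
          (a : Subgroup H) ⊓ ((c • a : Sylow p H) : Subgroup H) := by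
        refine lt_of_le_of_ne hle fun heq => hkb ?_
        have h1 : k ∈ (b : Subgroup H) ⊓ ((c • a : Sylow p H) : Subgroup H) := by
          rw [heq]; exact ⟨hk, hk'⟩
        exact smul_self (a := b) h1.1
      have h3 : Nat.card ↥((b : Subgroup H) ⊓ ((c • a : Sylow p H) : Subgroup H)) <
          Nat.card ↥((a : Subgroup H) ⊓ ((c • a : Sylow p H) : Subgroup H)) :=
        Set.ncard_lt_ncard (s := (((b : Subgroup H) ⊓ ((c • a : Sylow p H) : Subgroup H) : Subgroup H) : Set H))
          (t := (((a : Subgroup H) ⊓ ((c • a : Sylow p H) : Subgroup H) : Subgroup H) : Set H))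
          hlt (Set.toFinite _)
      rw [← hea, coe_inf_smul a e c] at h3
      exact absurd (hmin _ (mul_mem (inv_mem he) hc)) (not_le.2 h3)
    · have h1 := hg.fix k hk' (hG.self S hS a ha k hk)
      exact regular hR hS ha hc1 hne hk h1 b hb
  have hV2 : ∀ S ∈ Pa, Mv X S → a ∈ S → ∀ k ∈ a, k ∈ (c • a : Sylow p H) → ∀ e ∈ X, e • S = S →
      k * e = e * k := by
    intro S hS hM ha k hk hk' e he heS
    have hea : e • a ∈ S := by rw [← heS]; exact Set.smul_mem_smul_set ha
    have h1 := hV S hS hM ha k hk hk' _ hea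
    exact (comm_of_mem hc2 he hk (mem_of_smul_eq hk h1)).symm
  refine ⟨c, hc, fun k hk hk' => ?_⟩
  intro x
  induction hn : d a (x • a) using Nat.strong_induction_on generalizing x with
  | _ n ih =>
    intro hx
    by_cases hxa : x • a = a
    · exact (comm_of_mem hc2 hx hk (by rw [hxa]; exact hk)).symm
    obtain ⟨S, hS, hxS, c1, hc1, hg, hne, hlt⟩ := hG.desc a (x • a) (Ne.symm hxa)
    have hM : Mv X S := by
      by_contra hM
      have h1 := star hG hS (fun a ha c hc hca => stab hG hc2 hS hc ha hca) hM hx hxS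
      exact hne (hG.gate_unique hS hg h1 hc1 hxS)
    obtain ⟨e, he, heS, hea⟩ := hM.tr hG hS hxS hc1
    have h1 : k * (e * x) = (e * x) * k := by
      refine ih (d a ((e * x) • a)) ?_ (e * x) rfl (mul_mem he hx)
      rw [mul_smul, hea, ← hn]
      exact hlt
    have heS' : (x⁻¹ * e * x) • (x⁻¹ • S) = x⁻¹ • S := by
      rw [← mul_smul]
      have e1 : x⁻¹ * e * x * x⁻¹ = x⁻¹ * e := by group
      rw [e1, mul_smul, heS]
    have haS : a ∈ x⁻¹ • S := by
      rw [Set.mem_smul_set_iff_inv_smul_mem, inv_inv]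
      exact hxS
    have h3 : k * (x⁻¹ * e * x) = (x⁻¹ * e * x) * k := by
      refine hV2 (x⁻¹ • S) (hG.smul S hS _) (hM.smul x⁻¹) haS k hk hk' _ ?_ heS'
      have := hX.conj_mem e he x⁻¹
      rwa [inv_inv] at this
    have h4 : Commute k (e * x) := h1
    have h5 : Commute k (x⁻¹ * e * x) := h3
    have h6 : Commute k ((e * x) * (x⁻¹ * e * x)⁻¹) := h4.mul_right h5.inv_right
    have e1 : (e * x) * (x⁻¹ * e * x)⁻¹ = x := by group
    rw [e1] at h6
    exact h6

include hX hp in
/-- `X` and its centraliser are transitive on the chambers. -/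
theorem conn (hG : GSys Pa d) (hR : Reg Pa) (hc2 : (Nat.card X).Coprime p) (a b : Sylow p H) :
    ∃ h ∈ X ⊔ Subgroup.centralizer (X : Set H), h • a = b := by
  induction hn : d a b using Nat.strong_induction_on generalizing b with
  | _ n ih =>
    by_cases hab : a = b
    · exact ⟨1, one_mem _, by rw [one_smul, hab]⟩
    obtain ⟨S, hS, hbS, c1, hc1, hg, hne, hlt⟩ := hG.desc a b hab
    obtain ⟨h, hh, hha⟩ := ih _ (by rw [← hn]; exact hlt) c1 rfl
    by_cases hM : Mv X S
    · obtain ⟨e, he, _, hee⟩ := hM.tr hG hS hc1 hbS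
      refine ⟨e * h, mul_mem (Subgroup.mem_sup_left he) hh, ?_⟩
      rw [mul_smul, hha, hee]
    · obtain ⟨f, hf, hf1, hf2⟩ := hG.three S hS c1 hc1 b hbS
      obtain ⟨c, hc, hcen⟩ := exists_min hG hR hc2 f
      obtain ⟨u, hu, hu', hub⟩ := key4 hG hS (fun a ha c hc hca => stab hG hc2 hS hc ha hca) hM hf hc
        hc1 hbS (Ne.symm hf1) (Ne.symm hf2)
      have h3 := hcen u hu hu'
      refine ⟨u * h, mul_mem (Subgroup.mem_sup_right ?_) hh, ?_⟩
      · rw [Subgroup.mem_centralizer_iff]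
        intro x hx
        exact (h3 x hx).symm
      · rw [mul_smul, hha, hub]

end Cop

/-- a subgroup `N` normal in `H` transitive on the chambers contains the perfect subgroups -/
theorem perfect_le_of_tr [Finite H] {N : Subgroup H} (hN : N.Normal) (a : Sylow p H)
    (hs : Group.IsSolvable ↥(Subgroup.normalizer (a : Set H))) (htr : ∀ b : Sylow p H, ∃ h ∈ N, h • a = b)
    {P : Subgroup H} (hP : ⁅P, P⁆ = P) : P ≤ N := by
  refine perfect_le (N := N) ?_ hP
  let f : ↥(Subgroup.normalizer (a : Set H)) →* H ⧸ N :=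
    (QuotientGroup.mk' _).comp (Subgroup.subtype _)
  refine Group.isSolvable_of_surjective (f := f) ?_
  intro y
  obtain ⟨g, rfl⟩ := QuotientGroup.mk_surjective y
  obtain ⟨h, hh, hha⟩ := htr (g • a)
  have h1 : h⁻¹ * g ∈ Subgroup.normalizer (a : Set H) := by
    refine Sylow.smul_eq_iff_mem_normalizer.1 ?_
    rw [mul_smul, ← hha, inv_smul_smul]
  refine ⟨⟨h⁻¹ * g, h1⟩, ?_⟩
  change (QuotientGroup.mk (h⁻¹ * g) : H ⧸ N) = QuotientGroup.mk g
  rw [QuotientGroup.eq]
  have e1 : (h⁻¹ * g)⁻¹ * g = g⁻¹ * h * g⁻¹⁻¹ := by group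
  rw [e1]
  exact hN.conj_mem h hh g⁻¹

/-- every perfect subgroup lies in `X C_H(X)`, `X` a normal `p'`-subgroup -/
theorem perfect_le_sup [Finite H] [Fact p.Prime] (hG : GSys Pa d) (hR : Reg Pa) {X : Subgroup H} [hX : X.Normal]
    (hc2 : (Nat.card X).Coprime p) (a : Sylow p H)
    (hs : Group.IsSolvable ↥(Subgroup.normalizer (a : Set H))) {P : Subgroup H} (hP : ⁅P, P⁆ = P) :
    P ≤ X ⊔ Subgroup.centralizer (X : Set H) :=
  perfect_le_of_tr inferInstance a hs (conn hG hR hc2 a) hP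

/-! ### Components of order divisible by `p` -/

section Comp

variable [Finite H] [hp : Fact p.Prime] {K : Subgroup H}

/-- An element `u` of a component, of a chamber of a panel which is not moved by the layer, lies in all chambers. -/
theorem mem_of_not_Mv (hG : GSys Pa d) {E : Subgroup H} {S : Set (Sylow p H)} (hS : S ∈ Pa) (hM : ¬ Mv E S)
    {a b : Sylow p H} (ha : a ∈ S) (hb : b ∈ S) {u : H} (hu : u ∈ a) (huE : u ∈ E) : u ∈ b := by
  refine mem_of_smul_eq hu ?_
  by_contra hne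
  exact hM ⟨u, huE, hG.self S hS a ha u hu, b, hb, hne⟩

theorem stab' (hG : GSys Pa d) {E : Subgroup H} (hE : E.Normal) {S : Set (Sylow p H)} (hS : S ∈ Pa)
    (hM : ¬ Mv E S) : ∀ a ∈ S, ∀ c ∈ E, c • a ∈ S → c • S = S := by
  intro a ha c hc hca
  obtain ⟨Kr, hK⟩ := hG.ker S hS
  have h1 : ∀ b ∈ S, c • b ∈ S := by
    intro b hb
    rw [hK]
    intro k hk
    change k ∈ (c • b : Sylow p H)
    rw [mem_smul_iff]
    have h1 : c⁻¹ * k * c ∈ a := mem_smul_iff.1 ((hK _).1 hca hk)
    have h2 : c⁻¹ * k * c * k⁻¹ ∈ a := mul_mem h1 (inv_mem ((hK a).1 ha hk))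
    have h3 : c⁻¹ * k * c * k⁻¹ ∈ E := by
      have e : c⁻¹ * k * c * k⁻¹ = c⁻¹ * (k * c * k⁻¹) := by group
      rw [e]
      exact mul_mem (inv_mem hc) (hE.conj_mem c hc k)
    have h4 := mul_mem (mem_of_not_Mv hG hS hM ha hb h2 h3) ((hK b).1 hb hk)
    rwa [inv_mul_cancel_right] at h4
  have h3 : ∀ b ∈ S, c⁻¹ • b ∈ S := by
    intro b hb
    rw [hK]
    intro k hk
    change k ∈ (c⁻¹ • b : Sylow p H)
    rw [mem_smul_iff, inv_inv]
    have h1 : c * k * c⁻¹ ∈ (c • a : Sylow p H) := by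
      rw [mem_smul_iff]
      have e : c⁻¹ * (c * k * c⁻¹) * c = k := by group
      rw [e]
      exact (hK a).1 ha hk
    have h2 : c * k * c⁻¹ * k⁻¹ ∈ (c • a : Sylow p H) := mul_mem h1 (inv_mem ((hK _).1 hca hk))
    have h3 : c * k * c⁻¹ * k⁻¹ ∈ E := by
      have e : c * k * c⁻¹ * k⁻¹ = c * (k * c⁻¹ * k⁻¹) := by group
      rw [e]
      exact mul_mem hc (hE.conj_mem _ (inv_mem hc) k)
    have h4 := mul_mem (mem_of_not_Mv hG hS hM hca hb h2 h3) ((hK b).1 hb hk)
    rwa [inv_mul_cancel_right] at h4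
  ext b
  constructor
  · rintro ⟨b', hb', rfl⟩
    exact h1 b' hb'
  · intro hb
    exact ⟨c⁻¹ • b, h3 b hb, smul_inv_smul c b⟩

theorem mem_normalizer_of_map {L : Type*} [Group L] {K : Subgroup L} {h : L}
    (hh : K.map (MulAut.conj h).toMonoidHom = K) : h ∈ Subgroup.normalizer (K : Set L) := by
  rw [Subgroup.mem_normalizer_iff]
  intro x
  constructor
  · intro hx
    have h1 := Subgroup.mem_map_of_mem (MulAut.conj h).toMonoidHom hx
    rw [hh] at h1
    exact h1
  · intro hx
    rw [← SetLike.mem_coe, ← hh] at hx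
    obtain ⟨y, hy, hyx⟩ := hx
    have h1 : h * y * h⁻¹ = h * x * h⁻¹ := hyx
    rw [mul_left_inj, mul_right_inj] at h1
    rwa [← h1]

/-- an element not normalising a component conjugates it to a commuting one -/
theorem comm_conj {L : Type*} [Group L] {K : Subgroup L} (hK : Cfsg.IsComponent K) {h : L}
    (hh : h ∉ Subgroup.normalizer (K : Set L)) {x y : L} (hx : x ∈ K) (hy : y ∈ K) :
    (h * x * h⁻¹) * y = y * (h * x * h⁻¹) := by
  have h1 : Cfsg.IsComponent (K.map (MulAut.conj h).toMonoidHom) := isComponent_conj h hK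
  have h2 : K.map (MulAut.conj h).toMonoidHom ≠ K := fun h3 => hh (mem_normalizer_of_map h3)
  have h3 := component_le_centralizer_of_ne h1 hK h2 (Subgroup.mem_map_of_mem _ hx)
  exact (Subgroup.mem_centralizer_iff.1 h3 y hy).symm

/-- (C3) -/
theorem norm_of (hK : Cfsg.IsComponent K) {f : Sylow p H} {k : H} (hk : k ∈ K) {y : H} (hy : y ∈ K)
    (hyf : ¬ (y ∈ f ↔ y ∈ (k • f : Sylow p H))) {u : H} (hu : u ∈ f) (hu' : u ∈ (k • f : Sylow p H)) :
    u ∈ Subgroup.normalizer (K : Set H) := by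
  by_contra hn
  have hn' : u⁻¹ ∉ Subgroup.normalizer (K : Set H) := fun h => hn (inv_mem_iff.1 h)
  apply hyf
  have h1 : k⁻¹ * u * k ∈ f := mem_smul_iff.1 hu'
  have h2 : u⁻¹ * k⁻¹ * u * k ∈ f := by
    have e : u⁻¹ * k⁻¹ * u * k = u⁻¹ * (k⁻¹ * u * k) := by group
    rw [e]
    exact mul_mem (inv_mem hu) h1
  -- conjugation by `w = (u⁻¹ k⁻¹ u) k` on `K` is conjugation by `k`
  have h3 : ∀ z ∈ K, (u⁻¹ * k⁻¹ * u * k) * (k⁻¹ * z * k) * (u⁻¹ * k⁻¹ * u * k)⁻¹ = z := by
    intro z hz
    have h4 := comm_conj hK hn' (inv_mem hk) hz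
    rw [inv_inv] at h4
    have e : (u⁻¹ * k⁻¹ * u * k) * (k⁻¹ * z * k) * (u⁻¹ * k⁻¹ * u * k)⁻¹ =
        ((u⁻¹ * k⁻¹ * u) * z) * (u⁻¹ * k⁻¹ * u)⁻¹ := by group
    rw [e, h4, mul_inv_cancel_right]
  rw [mem_smul_iff]
  constructor
  · intro h
    have h4 : (u⁻¹ * k⁻¹ * u * k)⁻¹ * y * (u⁻¹ * k⁻¹ * u * k) ∈ f := mul_mem (mul_mem (inv_mem h2) h) h2
    have h5 : (u⁻¹ * k⁻¹ * u * k)⁻¹ * y * (u⁻¹ * k⁻¹ * u * k) = k⁻¹ * y * k := by
      nth_rewrite 1 [← h3 y hy]
      group
    rwa [h5] at h4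
  · intro h
    have h4 := mul_mem (mul_mem h2 h) (inv_mem h2)
    rwa [h3 y hy] at h4

/-- (C4) `K` does not normalise `f ∩ K` -/
theorem exists_not_norm (hK : Cfsg.IsComponent K) (hpK : p ∣ Nat.card K) (f : Sylow p H) :
    ∃ k ∈ K, ∃ y ∈ K, ¬ (y ∈ f ↔ y ∈ (k • f : Sylow p H)) := by
  by_contra hcon
  push Not at hcon
  obtain ⟨Q, hQ⟩ := S0542.result p K hK.1 f
  have hQn : (Q : Subgroup ↥K).Normal := by
    refine ⟨fun n hn g => ?_⟩
    rw [hQ, Subgroup.mem_subgroupOf] at hn ⊢
    have h1 := (hcon (g : H) g.2 ((g * n * g⁻¹ : ↥K) : H) (g * n * g⁻¹).2).2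
    apply h1
    rw [mem_smul_iff]
    have e : (g : H)⁻¹ * ((g * n * g⁻¹ : ↥K) : H) * (g : H) = (n : H) := by
      simp only [Subgroup.coe_mul, Subgroup.coe_inv]
      group
    rw [e]
    exact hn
  rcases quasisimple_normal hK.2 _ hQn with h | h
  · have h1 : IsPGroup p ↥K := by
      have h2 := Q.isPGroup'
      rw [h] at h2
      exact h2.of_equiv Subgroup.topEquiv
    have h2 : Group.IsNilpotent ↥K := h1.isNilpotent
    exact quasisimple_not_isSolvable hK.2 inferInstance
  · exact CompBasic.sylow_not_le_center_of_perfect (quasisimple_isPerfect hK.2) p hpK Q h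

/-- (C5) the normaliser of a component is transitive on the chambers -/
theorem conn' (hG : GSys Pa d) (hK : Cfsg.IsComponent K) (hpK : p ∣ Nat.card K) (a b : Sylow p H) :
    ∃ h ∈ Subgroup.normalizer (K : Set H), h • a = b := by
  induction hn : d a b using Nat.strong_induction_on generalizing b with
  | _ n ih =>
    by_cases hab : a = b
    · exact ⟨1, one_mem _, by rw [one_smul, hab]⟩
    obtain ⟨S, hS, hbS, c1, hc1, hg, hne, hlt⟩ := hG.desc a b hab
    obtain ⟨h, hh, hha⟩ := ih _ (by rw [← hn]; exact hlt) c1 rfl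
    have hE : (Cfsg.layer H).Normal := layer_normal H
    by_cases hM : Mv (Cfsg.layer H) S
    · obtain ⟨e, he, _, hee⟩ := hM.tr hG hS hc1 hbS
      refine ⟨e * h, mul_mem (layer_le_normalizer_component hK he) hh, ?_⟩
      rw [mul_smul, hha, hee]
    · obtain ⟨f, hf, hf1, hf2⟩ := hG.three S hS c1 hc1 b hbS
      obtain ⟨k, hk, y, hy, hky⟩ := exists_not_norm hK hpK f
      obtain ⟨u, hu, hu', hub⟩ := key4 hG hS (stab' hG hE hS hM) hM hf (component_le_layer hK hk)
        hc1 hbS (Ne.symm hf1) (Ne.symm hf2)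
      refine ⟨u * h, mul_mem (norm_of hK hk hy hky hu hu') hh, ?_⟩
      rw [mul_smul, hha, hub]

/-- (C6) the geometric part: `u ∈ K ∩ e`, `u ∉ c` -/
theorem le_of_panel (hG : GSys Pa d) (hR : Reg Pa) (hK : Cfsg.IsComponent K) {S : Set (Sylow p H)} (hS : S ∈ Pa)
    {e c : Sylow p H} (he : e ∈ S) (hc : c ∈ S) {u : H} (huK : u ∈ K) (hue : u ∈ e) (huc : u ∉ c) :
    (c : Subgroup H) ≤ Subgroup.normalizer (K : Set H) := by
  have hec : e ≠ c := by
    rintro rfl
    exact huc hue
  -- `u` fixes only `e` on `S`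
  have h1 : ∀ f ∈ S, u • f = f → f = e := by
    intro f hf huf
    by_contra hne
    exact huc (hR S hS e he f hf (Ne.symm hne) u hue (mem_of_smul_eq hue huf) c hc)
  have huS := hG.self S hS e he u hue
  have h2 : ∀ h : H, h • S = S → h ∉ Subgroup.normalizer (K : Set H) → h • e = e := by
    intro h hhS hh
    have h3 := comm_conj hK hh huK huK
    have h4 : (h * u * h⁻¹) • (u • (h • e)) = u • (h • e) := by
      rw [← mul_smul, h3, mul_smul, mul_smul, mul_smul, inv_smul_smul, smul_self hue]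
    have h5 : ∀ f ∈ S, (h * u * h⁻¹) • f = f → f = h • e := by
      intro f hf h6
      have h7 : u • (h⁻¹ • f) = h⁻¹ • f := by
        rw [mul_smul, mul_smul] at h6
        rw [eq_inv_smul_iff]
        exact h6
      have h8 : h⁻¹ • f ∈ S := by
        rw [← Set.mem_smul_set_iff_inv_smul_mem, hhS]
        exact hf
      rw [← h1 _ h8 h7, smul_inv_smul]
    have h6 : h • e ∈ S := by rw [← hhS]; exact Set.smul_mem_smul_set he
    have h7 : u • (h • e) ∈ S := by rw [← huS]; exact Set.smul_mem_smul_set h6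
    exact h1 _ h6 (h5 _ h7 h4)
  obtain ⟨f, hf, hfc, hfe⟩ := hG.three S hS c hc e he
  obtain ⟨v0, hv0, hv0S, hv0e⟩ := (hG.gate_self hS hc).tr e he f hf hec hfc
  have hv0n : v0 ∈ Subgroup.normalizer (K : Set H) := by
    by_contra hn
    rw [h2 v0 hv0S hn] at hv0e
    exact hfe hv0e.symm
  intro v hv
  by_contra hvn
  have h3 := h2 v (hG.self S hS c hc v hv) hvn
  have h4 : (v * v0) ∉ Subgroup.normalizer (K : Set H) := by
    intro h
    apply hvn
    have := mul_mem h (inv_mem hv0n)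
    rwa [mul_inv_cancel_right] at this
  have h5 := h2 (v * v0) (hG.self S hS c hc _ (mul_mem hv hv0)) h4
  rw [mul_smul, hv0e] at h5
  apply hfe
  have h6 : v • f = v • e := by rw [h5, h3]
  exact smul_left_cancel v h6

/-- (C6) some chamber normalises `K` -/
theorem exists_le (hG : GSys Pa d) (hR : Reg Pa) (hK : Cfsg.IsComponent K) (hpK : p ∣ Nat.card K) :
    ∃ c : Sylow p H, (c : Subgroup H) ≤ Subgroup.normalizer (K : Set H) := by
  classical
  -- a pair of chambers which meet `K` differently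
  have hex : ∃ n, ∃ a b : Sylow p H, d a b = n ∧ ¬ (∀ x ∈ K, x ∈ a ↔ x ∈ b) := by
    obtain ⟨f⟩ : Nonempty (Sylow p H) := inferInstance
    obtain ⟨k, hk, y, hy, hky⟩ := exists_not_norm hK hpK f
    exact ⟨_, f, k • f, rfl, fun h => hky (h y hy)⟩
  obtain ⟨a, b, hd, hab⟩ := Nat.find_spec hex
  have hmin : ∀ a' b' : Sylow p H, d a' b' < d a b → ∀ x ∈ K, x ∈ a' ↔ x ∈ b' := by
    intro a' b' hlt
    by_contra hcon
    have := Nat.find_min' hex ⟨a', b', rfl, hcon⟩
    omega
  have hne : a ≠ b := by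
    rintro rfl
    exact hab fun x _ => Iff.rfl
  obtain ⟨S, hS, hbS, c1, hc1, hg, hcb, hlt⟩ := hG.desc a b hne
  have h1 := hmin a c1 hlt
  have h2 : ¬ (∀ x ∈ K, x ∈ c1 ↔ x ∈ b) := fun h => hab fun x hx => (h1 x hx).trans (h x hx)
  push Not at h2
  obtain ⟨u, hu, h3 | h3⟩ := h2
  · exact ⟨b, le_of_panel hG hR hK hS hc1 hbS hu h3.1 h3.2⟩
  · exact ⟨c1, le_of_panel hG hR hK hS hbS hc1 hu h3.2 h3.1⟩

/-- all `p`-elements normalise `K` -/
theorem sylow_le (hG : GSys Pa d) (hR : Reg Pa) (hK : Cfsg.IsComponent K) (hpK : p ∣ Nat.card K) (a : Sylow p H) :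
    (a : Subgroup H) ≤ Subgroup.normalizer (K : Set H) := by
  obtain ⟨c, hc⟩ := exists_le hG hR hK hpK
  obtain ⟨h, hh, rfl⟩ := conn' hG hK hpK c a
  intro x hx
  have h1 : h⁻¹ * x * h ∈ c := mem_smul_iff.1 hx
  have h2 := mul_mem (mul_mem hh (hc h1)) (inv_mem hh)
  have e : h * (h⁻¹ * x * h) * h⁻¹ = x := by group
  rwa [e] at h2

end Comp

/-- a subgroup containing all chambers is transitive on the chambers -/
theorem conn_p (hG : GSys Pa d) {N : Subgroup H} (hN : ∀ f : Sylow p H, (f : Subgroup H) ≤ N) (a b : Sylow p H) :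
    ∃ h ∈ N, h • a = b := by
  induction hn : d a b using Nat.strong_induction_on generalizing b with
  | _ n ih =>
    by_cases hab : a = b
    · exact ⟨1, one_mem _, by rw [one_smul, hab]⟩
    obtain ⟨S, hS, hbS, c1, hc1, hg, hne, hlt⟩ := hG.desc a b hab
    obtain ⟨h, hh, hha⟩ := ih _ (by rw [← hn]; exact hlt) c1 rfl
    obtain ⟨f, hf, hf1, hf2⟩ := hG.three S hS c1 hc1 b hbS
    obtain ⟨u, hu, huS, hub⟩ := (hG.gate_self hS hf).tr c1 hc1 b hbS (Ne.symm hf1) (Ne.symm hf2)
    exact ⟨u * h, mul_mem (hN f hu) hh, by rw [mul_smul, hha, hub]⟩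

/-- **The perfect subgroups normalise the components.** -/
theorem perfect_le_normalizer [Finite H] [Fact p.Prime] (hG : GSys Pa d) (hR : Reg Pa) (a : Sylow p H)
    (hs : Group.IsSolvable ↥(Subgroup.normalizer (a : Set H))) {K : Subgroup H} (hK : Cfsg.IsComponent K)
    {P : Subgroup H} (hP : ⁅P, P⁆ = P) : P ≤ Subgroup.normalizer (K : Set H) := by
  by_cases hpK : p ∣ Nat.card K
  · -- the subgroup generated by the Sylow subgroups
    have hN : (Subgroup.normalClosure ((a : Subgroup H) : Set H)).Normal := Subgroup.normalClosure_normal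
    have hle : Subgroup.normalClosure ((a : Subgroup H) : Set H) ≤ Subgroup.normalizer (K : Set H) := by
      unfold Subgroup.normalClosure
      rw [Subgroup.closure_le]
      intro x hx
      rw [Group.mem_conjugatesOfSet_iff] at hx
      obtain ⟨y, hy, hyx⟩ := hx
      obtain ⟨g, hg⟩ := isConj_iff.1 hyx
      have h1 : x ∈ (g • a : Sylow p H) := by
        rw [mem_smul_iff, ← hg]
        have e : g⁻¹ * (g * y * g⁻¹) * g = y := by group
        rw [e]
        exact hy
      exact sylow_le hG hR hK hpK _ h1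
    refine le_trans (perfect_le_of_tr hN a hs (conn_p hG (fun f => ?_) a) hP) hle
    obtain ⟨g, rfl⟩ := MulAction.exists_smul_eq H a f
    intro x hx
    have h1 : g⁻¹ * x * g ∈ a := mem_smul_iff.1 hx
    have h2 := hN.conj_mem _ (Subgroup.subset_normalClosure (s := ((a : Subgroup H) : Set H)) h1) g
    have e : g * (g⁻¹ * x * g) * g⁻¹ = x := by group
    rwa [e] at h2
  · have hcK : (Nat.card K).Coprime p := by
      rw [Nat.coprime_comm]
      exact (Nat.Prime.coprime_iff_not_dvd Fact.out).2 hpK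
    have h1 : K ≤ Cfsg.pPrimeCore p H := by
      refine BpTab.core_inf_le (N := ⊤) Subgroup.IsSubnormal.top le_top ?_ hcK
      exact hK.1.subgroupOf
    have hXn : (Cfsg.layer H ⊓ Cfsg.pPrimeCore p H).Normal := by
      have := layer_normal H
      have := Lib.Cores.pPrimeCore_normal (G := H) p
      infer_instance
    have hXc : (Nat.card ↥(Cfsg.layer H ⊓ Cfsg.pPrimeCore p H)).Coprime p :=
      (Lib.Cores.pPrimeCore_coprime (G := H) p).coprime_dvd_left (Subgroup.card_dvd_of_le inf_le_right)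
    refine (perfect_le_sup hG hR hXc a hs hP).trans (sup_le ?_ ?_)
    · exact inf_le_left.trans (layer_le_normalizer_component hK)
    · have h2 : K ≤ Cfsg.layer H ⊓ Cfsg.pPrimeCore p H := le_inf (component_le_layer hK) h1
      exact (Subgroup.centralizer_le h2).trans (Subgroup.centralizer_le_normalizer _)

end Cfsg.Agent.H73.GC
end

-- part: H73/NComp
section
/-!
# The perfect subgroups of the centralisers of involutions normalise the components (helper73)

`NComp C` : every perfect subgroup of `C` normalises every component of `C`. It holds for the fixed points of the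
automorphisms `τ` with `τ² = 1` of the groups with a good split (B,N)-pair of odd characteristic (`nComp`), and for
the centralisers of involutions in the simple groups of Lie type of odd characteristic (`nComp_cent`).
-/

set_option autoImplicit false
set_option linter.unusedSectionVars false

open scoped Pointwise commutatorElement

namespace Cfsg.Agent.H73

open Cfsg Cfsg.Agent.SignalizersComponents Cfsg.Agent.SignalizersComponents.Components

/-- every perfect subgroup normalises every component -/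
def NComp (C : Type*) [Group C] : Prop :=
  ∀ K : Subgroup C, IsComponent K → ∀ L : Subgroup C, ⁅L, L⁆ = L → L ≤ Subgroup.normalizer (K : Set C)

theorem NComp.congr {C D : Type*} [Group C] [Group D] (e : C ≃* D) (h : NComp C) : NComp D := by
  intro K hK L hL
  have h1 := h (K.map e.symm.toMonoidHom) (isComponent_map_equiv e.symm hK) (L.map e.symm.toMonoidHom)
    (by rw [← Subgroup.map_commutator, hL])
  intro x hx
  have h2 := h1 (Subgroup.mem_map_of_mem _ hx)
  rw [Subgroup.mem_normalizer_iff] at h2 ⊢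
  have hmem : ∀ y : D, y ∈ K ↔ e.symm y ∈ K.map e.symm.toMonoidHom := by
    intro y
    constructor
    · intro hy
      exact Subgroup.mem_map_of_mem e.symm.toMonoidHom hy
    · rintro ⟨z, hz, hzy⟩
      have h3 : z = y := e.symm.injective hzy
      rwa [← h3]
  intro y
  rw [hmem y, hmem (x * y * x⁻¹), map_mul, map_mul, map_inv]
  exact h2 (e.symm y)

end Cfsg.Agent.H73

namespace Cfsg.Agent.H73.NC

open Cfsg Cfsg.Agent.SignalizersComponents Cfsg.Agent.SignalizersComponents.Components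
open Cfsg.Agent.Tits.Core Cfsg.Agent.Tits.Core.Bldg Cfsg.Agent.Tits.Exchange Cfsg.Agent.Tits
open Cfsg.Agent.FixBN Cfsg.Agent.FixBN.Cox Cfsg.Agent.Lib Cfsg.Agent.FixBN.Tw
open Cfsg.Agent.Tits.OfBN Cfsg.Agent.Schreier.BNSch

section Bldg

variable {I : Type*} {M : CoxeterMatrix I} {W : Type*} [Group W] {cs : CoxeterSystem M W} {C : Type*}

variable {Δ : Bldg cs C} {G : Type*} [Group G] [MulAction G C] {p : ℕ} {t : Tw Δ G}
  [F : OppRes.Cox cs] [Finite G] [hp : Fact p.Prime] [Finite C]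

/-- the regularity of the panels -/
theorem reg (S : Sys Δ G p) (hth : Δ.Thick) : GC.Reg (t.Pas S) := by
  rintro _ ⟨T, y, hT, rfl⟩ a ⟨Z, hZ, ha⟩ b ⟨Z', hZ', hb⟩ hab u hua hub c ⟨Z3, hZ3, hc⟩
  have hne : Z' ≠ Z := by
    rintro rfl
    exact hab (ha.eq hb)
  have h1 := mem_UR_of_two S hth hT hZ hZ' hne ((ha u).1 hua) ((hb u).1 hub)
  rw [hc u]
  obtain ⟨J, z, hJ, hz, hgd, rfl⟩ := hZ3
  refine UR_mono S ?_ h1
  rw [← Δ.Res_eq_of_mem hz]
  exact Δ.Res_mono hJ z

/-- the perfect subgroups of the centraliser normalise the components -/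
theorem nComp_tw (S : Sys Δ G p) (hth : Δ.Thick) (hp2 : p ≠ 2) {J : Set I} {x : C} (h : t.Gd J x)
    (h3 : ∀ g ∈ t.cent, (∀ u, u ∈ t.P S (Δ.Res J x) ↔ g * u * g⁻¹ ∈ t.P S (Δ.Res J x)) →
      (g * g) • Δ.Res J x = Δ.Res J x)
    (h3' : ∀ g ∈ t.cent, (∀ u, u ∈ t.P S (Δ.Res J x) ↔ g * u * g⁻¹ ∈ t.P S (Δ.Res J x)) →
      ∀ c ∈ t.cent, c • Δ.Res J x = Δ.Res J x → (g * c * g⁻¹) • Δ.Res J x = Δ.Res J x)
    (h4 : Group.IsSolvable ↥(t.cent ⊓ MulAction.stabilizer G (Δ.Res J x))) : NComp ↥t.cent := by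
  obtain ⟨R, hR⟩ := exists_sylow S hth hp2 h
  have hN := isSolvable_normalizer S h3 h3' h4
  rw [← hR] at hN
  intro K hK L hL
  exact GC.perfect_le_normalizer (gsys S hth hp2) (reg S hth) R hN hK hL

end Bldg

theorem nComp_of_allGood {K : Type*} [Group K] [Finite K] {p : ℕ} [hp : Fact p.Prime] (hp2 : p ≠ 2)
    {P : Cfsg.BNPair K} {U : Subgroup K} (h : Split P p U) (hB : Group.IsSolvable P.B)
    (hR : AllGood h) (τ : K ≃* K) (hτ : ∀ g, τ (τ g) = g) : NComp ↥(Reduce.fixSub τ) := by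
  have hN : ((P.B ⊓ P.N).subgroupOf P.N).Normal := normal_subgroupOf P
  obtain ⟨M, cs, hcs⟩ := S0320.result P
  obtain ⟨t, ht⟩ := TwOfBN.exists_tw h (Equiv.refl P.S) cs hcs τ hτ
  have hI : Finite P.S := OfBN.finite_I (Equiv.refl P.S)
  have hth := thick P (Equiv.refl P.S) cs hcs
  have hcent : t.cent = Reduce.fixSub τ := by
    ext g
    rw [t.mem_cent, ht]
    exact Iff.rfl
  obtain ⟨J, x, hgd⟩ := exists_good t (QuotientGroup.mk 1)
  let S := OfBN.sys (Equiv.refl P.S) cs hcs h
  have h4 := Sys.isSolvable_stab S hth hgd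
    (isSolvable_stabilizer hB x) (fun j _ => hR hN M cs hcs j x)
  rw [← hcent]
  exact nComp_tw S hth hp2 hgd
    (fun g hg hn => Tw.sq_smul_Res S hth hp2 hgd hg hn)
    (fun g hg hn c hc hcx => Tw.conj_smul_Res S hth hp2 hgd hg hn hc hcx) h4

/-- the good model -/
theorem nComp_of_goodSplit {K : Type*} [Group K] [Finite K] {p : ℕ} [hp : Fact p.Prime] (hp2 : p ≠ 2)
    (h : HasGoodSplit p K) {t : K} (ht : t * t = 1) : NComp ↥(Subgroup.centralizer ({t} : Set K)) := by
  have hτ : ∀ g, MulAut.conj t (MulAut.conj t g) = g := by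
    intro g
    rw [← MulAut.mul_apply, ← map_mul, ht, map_one, MulAut.one_apply]
  obtain ⟨P, U, _, h⟩ := h
  have h1 := nComp_of_allGood hp2 h.toSplit h.solv h.allGood (MulAut.conj t) hτ
  rw [OC.fixSub_conj] at h1
  exact h1

/-- **The simple groups of Lie type of odd characteristic.** -/
theorem nComp_cent {p : ℕ} (hp2 : p ≠ 2) {G : Type*} [Group G] [IsSimpleGroup G] (hG : IsLieTypeChar p G)
    {t : G} (ht : t * t = 1) :
    (OC.OddCent p ↥(Subgroup.centralizer ({t} : Set G)) ∧ NComp ↥(Subgroup.centralizer ({t} : Set G))) ∨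
      Lie.IsoRee G := by
  rcases exists_good_model hp2 hG with ⟨K, _, _, _, _, h, ⟨e⟩⟩ | h
  · left
    have h1 : e t * e t = 1 := by rw [← map_mul, ht, map_one]
    exact ⟨(OC.oddCent_of_goodSplit hp2 h (t := e t) h1).congr (OC.centCongr e t),
      (nComp_of_goodSplit hp2 h (t := e t) h1).congr (OC.centCongr e t).symm⟩
  · exact Or.inr h

end Cfsg.Agent.H73.NC
end
end

-- part: H73/SporBase
section
prune_inst 0x3000410044000000081800000000002020000102000000000000050208490000200500010850040010de24d040424040000000c00030000000000800000000000029006000341c00110000406003080c00000000000000000000000000000000000000000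
set_option linter.all false
open scoped Cfsg.Agent.FastGrp

-- part: H73/Lay
section
/-!
# Groups all of whose perfect subgroups lie in the layer (helper73)

`PLay C` : the perfect subgroups of `C` lie in the layer of `C`; for finite `C` the quotient of `C` by its layer is
then solvable (`PLay.isSolvable`).
-/

set_option autoImplicit false

open Cfsg Subgroup

namespace Cfsg.Agent.H73

open Cfsg.Agent.Lib Cfsg.Agent.SignalizersComponents Cfsg.Agent.SignalizersComponents.Components

/-- the perfect subgroups lie in the layer -/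
def PLay (C : Type*) [Group C] : Prop := ∀ L : Subgroup C, ⁅L, L⁆ = L → L ≤ layer C

theorem PLay.congr {C D : Type*} [Group C] [Group D] (e : C ≃* D) (h : PLay C) : PLay D := by
  intro L hL x hx
  have h1 := h (L.map e.symm.toMonoidHom) (by rw [← Subgroup.map_commutator, hL]) (mem_map_of_mem _ hx)
  have h2 : e (e.symm x) ∈ (layer C).map e.toMonoidHom := mem_map_of_mem e.toMonoidHom h1
  rw [e.apply_symm_apply] at h2
  exact map_equiv_layer_le e h2

/-- a normal subgroup containing the perfect subgroups has solvable quotient -/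
theorem isSolvable_quotient {C : Type*} [Group C] [Finite C] {N : Subgroup C} (hN : N.Normal)
    (h : ∀ L : Subgroup C, ⁅L, L⁆ = L → L ≤ N) : Group.IsSolvable (C ⧸ N) := by
  have hanti : Antitone (derivedSeries C) := derivedSeries_antitone C
  have hst : ∃ n, derivedSeries C (n + 1) = derivedSeries C n := by
    by_contra hcon
    push Not at hcon
    have hlt : ∀ n, derivedSeries C (n + 1) < derivedSeries C n := fun n =>
      lt_of_le_of_ne (hanti (Nat.le_succ n)) (hcon n)
    have hsa : StrictAnti (derivedSeries C) := strictAnti_nat_of_succ_lt hlt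
    exact not_injective_infinite_finite _ hsa.injective
  obtain ⟨n, hn⟩ := hst
  refine ⟨n, ?_⟩
  have h1 := h (derivedSeries C n) (by rw [← derivedSeries_succ, hn])
  rw [← map_derivedSeries_eq (QuotientGroup.mk'_surjective N) n, Subgroup.map_eq_bot_iff, QuotientGroup.ker_mk']
  exact h1

theorem PLay.isSolvable {C : Type*} [Group C] [Finite C] (h : PLay C) (hn : (layer C).Normal) :
    Group.IsSolvable (C ⧸ layer C) := isSolvable_quotient hn h

theorem HasOne.pLay {C : Type*} [Group C] (h : HasOne C) : PLay C := by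
  obtain ⟨K, hn, hq, hs⟩ := h
  intro L hL
  rw [HasOne.layer_eq hn hq hs]
  exact le_of_solvable hn hs hL

/-- from `C_Y(t)` to `C_X(t)` -/
theorem Red.pLay {X : Type*} [Group X] {Y : Subgroup X} [Y.Normal]
    (hp : ∀ D : Subgroup X, ⁅D, D⁆ = D → D ≤ Y) {t : X} (ht : t ∈ Y)
    (h : PLay ↥(centralizer ({(⟨t, ht⟩ : ↥Y)} : Set ↥Y))) : PLay ↥(centralizer ({t} : Set X)) := by
  intro L hL
  have h2 : L.map (centralizer ({t} : Set X)).subtype ≤ Y := hp _ (by rw [← Subgroup.map_commutator, hL])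
  have h3 : L ≤ Y.subgroupOf (centralizer ({t} : Set X)) := by
    intro k hk
    exact mem_subgroupOf.2 (h2 (mem_map_of_mem _ hk))
  set e := Red.centEquiv Y t ht with he
  set N := Y.subgroupOf (centralizer ({t} : Set X)) with hN
  have hNn : N.Normal := Red.normal_sub t
  have h4 : ⁅L.subgroupOf N, L.subgroupOf N⁆ = L.subgroupOf N := by
    apply Subgroup.map_injective N.subtype_injective
    rw [Subgroup.map_commutator, Subgroup.subgroupOf_map_subtype, inf_eq_left.2 h3, hL]
  have h5 := (PLay.congr e h) _ h4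
  have h6 : L ≤ (layer ↥N).map N.subtype := by
    intro x hx
    exact ⟨⟨x, h3 hx⟩, h5 (mem_subgroupOf.2 hx), rfl⟩
  exact h6.trans (map_subtype_layer_le (Subgroup.Normal.isSubnormal hNn))

/-- **The perfect subgroups lie in the layer**, if they centralise the Fitting subgroup and normalise the
components, and the components have the Schreier property. -/
theorem pLay_of {C : Type*} [Group C] [Finite C] (hN : NComp C)
    (hF : ∀ L : Subgroup C, ⁅L, L⁆ = L → L ≤ centralizer (fittingSubgroup C : Set C))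
    (hS : ∀ K : Subgroup C, IsComponent K → Schreier.Basic.Sch (↥K ⧸ center ↥K)) : PLay C := by
  intro L hL
  have hEn : (layer C).Normal := layer_normal C
  -- the centraliser of the layer is solvable
  have h1 : Group.IsSolvable ↥(centralizer (layer C : Set C)) := by
    refine Schreier.Basic.isSolvable_of_perfect_eq_bot _ fun D hD hDD => ?_
    have h2 : D ≤ centralizer (generalizedFittingSubgroup C : Set C) := by
      rw [GenFitting.genFitting_def, le_centralizer_iff]
      exact sup_le (le_centralizer_iff.1 hD) (le_centralizer_iff.1 (hF D hDD))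
    have h3 : D ≤ generalizedFittingSubgroup C := h2.trans GenFitting.centralizer_genFitting_le
    have h4 : ⁅D, D⁆ = ⊥ := by
      rw [commutator_eq_bot_iff_le_centralizer]
      exact h2.trans (centralizer_le h3)
    rw [← hDD, h4]
  have h2 : L.map (QuotientGroup.mk' (layer C)) ≤
      (centralizer (layer C : Set C)).map (QuotientGroup.mk' (layer C)) := by
    rintro _ ⟨x, hx, rfl⟩
    obtain ⟨e, he, hex⟩ := H12.CompQ.exists_inner_layer L hL hS (fun K hK => hN K hK L hL) hx
    refine ⟨e⁻¹ * x, hex, ?_⟩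
    rw [map_mul, map_inv]
    have h3 : QuotientGroup.mk' (layer C) e = 1 := (QuotientGroup.eq_one_iff e).2 he
    rw [h3, inv_one, one_mul]
  have h3 : L ≤ (QuotientGroup.mk' (layer C)).ker := by
    apply Schreier.Basic.le_ker_of_perfect _ hL
    have h4 : Group.IsSolvable ↥((centralizer (layer C : Set C)).map (QuotientGroup.mk' (layer C))) :=
      Group.isSolvable_of_surjective
        (f := (QuotientGroup.mk' (layer C)).subgroupMap (centralizer (layer C : Set C)))
        ((QuotientGroup.mk' (layer C)).subgroupMap_surjective _)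
    exact Group.isSolvable_of_isSolvable_injective (f := inclusion h2) (inclusion_injective h2)
  rwa [QuotientGroup.ker_mk'] at h3

/-- **Lie type of odd characteristic.** -/
theorem pLay_lie {p : ℕ} (hp2 : p ≠ 2) {G : Type*} [Group G] [Finite G] [IsSimpleGroup G]
    (hG : IsLieTypeChar p G) {t : G} (ht : t * t = 1) (ht1 : t ≠ 1)
    (hS : ∀ K : Subgroup ↥(centralizer ({t} : Set G)), IsComponent K →
      Schreier.Basic.Sch (↥K ⧸ center ↥K)) : PLay ↥(centralizer ({t} : Set G)) := by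
  rcases NC.nComp_cent hp2 hG ht with ⟨h1, h2⟩ | h
  · exact pLay_of h2 (fun L hL => h1.comm_fitting hL) hS
  · exact (ree_cent h ht ht1).pLay

end Cfsg.Agent.H73
end

-- part: H73/SporBase
section
/-!
# At most one component in the centralisers of involutions: the format of the rows (helper73)

`Row1 X` : the centraliser of every involution of `X` has no component or a normal quasisimple subgroup with
solvable quotient.
-/

set_option autoImplicit false

open Cfsg Subgroup

namespace Cfsg.Agent.H73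

open Cfsg.Agent.Lib Cfsg.Agent.SignalizersComponents Cfsg.Agent.SignalizersComponents.Components

theorem oneComp_of_none {X : Type*} [Group X] {C : Subgroup X} (h : ∀ K : Subgroup X, ¬ IsComponentOf K C) :
    OneComp ↥C := by
  left
  intro K hK
  refine h (K.map C.subtype) ⟨map_subtype_le K, ?_⟩
  rw [Subgroup.subgroupOf, comap_map_eq_self_of_injective C.subtype_injective]
  exact hK

theorem hasOne_of_perfect_le {X : Type*} [Group X] [Finite X] {C N : Subgroup X} (hN : IsQuasisimple ↥N)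
    (hNC : N ≤ C) (hperf : ∀ P : Subgroup X, P ≤ C → ⁅P, P⁆ = P → P ≤ N) : HasOne ↥C := by
  have hNN : ⁅N, N⁆ = N := by
    have := hN.1
    exact Subgroup.commutator_eq_self (H := N)
  have hle : ∀ L : Subgroup ↥C, ⁅L, L⁆ = L → L ≤ N.subgroupOf C := by
    intro L hL x hx
    exact mem_subgroupOf.2 (hperf (L.map C.subtype) (map_subtype_le L) (by rw [← Subgroup.map_commutator, hL])
      (mem_map_of_mem _ hx))
  have hn : (N.subgroupOf C).Normal := by
    constructor
    intro x hx g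
    have h1 : ⁅(N.subgroupOf C).map (MulAut.conj g).toMonoidHom, (N.subgroupOf C).map (MulAut.conj g).toMonoidHom⁆ =
        (N.subgroupOf C).map (MulAut.conj g).toMonoidHom := by
      rw [← Subgroup.map_commutator]
      congr 1
      apply Subgroup.map_injective C.subtype_injective
      rw [Subgroup.map_commutator, Subgroup.subgroupOf_map_subtype, inf_eq_left.2 hNC, hNN]
    exact hle _ h1 (mem_map_of_mem _ hx)
  exact ⟨N.subgroupOf C, hn, isQuasisimple_of_mulEquiv (subgroupOfEquivOfLe hNC).symm hN,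
    isSolvable_quotient hn hle⟩

/-- the tower lemma -/
theorem oneComp_tower {C U : Type*} [Group C] [Finite C] [Group U] {N : Subgroup C} [N.Normal]
    (hN : Group.IsSolvable (C ⧸ N)) (π : ↥N →* U) (hπ : Function.Surjective π)
    (hs : Group.IsSolvable π.ker) [hU : IsSimpleGroup U] (hna : ¬ IsMulCommutative U) : OneComp C := by
  by_cases hC : ∀ K : Subgroup C, ¬ IsComponent K
  · exact Or.inl hC
  right
  push Not at hC
  obtain ⟨K, hK⟩ := hC
  have hsub : ∀ H : Subgroup U, H.IsSubnormal → H = ⊥ ∨ H = ⊤ := by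
    intro H hH
    induction hH with
    | top => exact Or.inr rfl
    | step H L h_le hSubn hN ih =>
      rcases ih with rfl | rfl
      · exact Or.inl (le_bot_iff.1 h_le)
      · rw [normal_subgroupOf_iff_le_normalizer h_le, top_le_iff, normalizer_eq_top_iff] at hN
        exact hN.eq_bot_or_eq_top
  have key : ∀ L : Subgroup C, IsComponent L → ∃ _ : L ≤ N, ∀ u : U, ∃ l : ↥N, (l : C) ∈ L ∧ π l = u := by
    intro L hL
    obtain ⟨h, hc⟩ := CTwoTab.Tower.comp_image hN π hπ hs hL
    refine ⟨h, fun u => ?_⟩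
    have h1 : (L.subgroupOf N).map π = ⊤ := by
      rcases hsub _ hc.1 with h0 | h0
      · exfalso
        exact component_ne_bot hc h0
      · exact h0
    have h2 : u ∈ (L.subgroupOf N).map π := by rw [h1]; exact mem_top u
    obtain ⟨l, hl, hlu⟩ := h2
    exact ⟨l, mem_subgroupOf.1 hl, hlu⟩
  have huniq : ∀ L : Subgroup C, IsComponent L → L = K := by
    intro L hL
    by_contra hne
    have h1 := component_le_centralizer_of_ne hL hK hne
    obtain ⟨_, h2⟩ := key L hL
    obtain ⟨_, h3⟩ := key K hK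
    apply hna
    refine ⟨⟨fun a b => ?_⟩⟩
    obtain ⟨x, hx, rfl⟩ := h2 a
    obtain ⟨y, hy, rfl⟩ := h3 b
    rw [← map_mul, ← map_mul]
    congr 1
    exact Subtype.ext (mem_centralizer_iff.1 (h1 hx) (y : C) hy).symm
  have hKn : K.Normal := by
    have h1 : layer C = K := by
      rw [GenFitting.layer_def]
      have h : {L : Subgroup C | IsComponent L} = {K} := by
        ext L
        exact ⟨fun h => huniq L h, fun h => by rw [Set.mem_singleton_iff] at h; rw [h]; exact hK⟩
      rw [h, sSup_singleton]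
    rw [← h1]
    exact layer_normal C
  refine ⟨K, hKn, hK.2, isSolvable_quotient hKn fun L hL => ?_⟩
  obtain ⟨_, h3⟩ := key K hK
  have h4 : L ≤ N := le_of_solvable inferInstance hN hL
  have h5 : L.map (QuotientGroup.mk' K) ≤ (π.ker.map N.subtype).map (QuotientGroup.mk' K) := by
    rintro _ ⟨x, hx, rfl⟩
    obtain ⟨k, hk, hkx⟩ := h3 (π ⟨x, h4 hx⟩)
    refine ⟨(k : C)⁻¹ * x, ⟨k⁻¹ * ⟨x, h4 hx⟩, ?_, rfl⟩, ?_⟩
    · rw [SetLike.mem_coe, MonoidHom.mem_ker, map_mul, map_inv, hkx, inv_mul_cancel]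
    · rw [map_mul, map_inv]
      have h6 : QuotientGroup.mk' K (k : C) = 1 := (QuotientGroup.eq_one_iff _).2 hk
      rw [h6, inv_one, one_mul]
  have h6 : L ≤ (QuotientGroup.mk' K).ker := by
    apply Schreier.Basic.le_ker_of_perfect _ hL
    have h7 : Group.IsSolvable ↥(π.ker.map N.subtype) :=
      Group.isSolvable_of_surjective (f := N.subtype.subgroupMap π.ker) (N.subtype.subgroupMap_surjective _)
    have h4 : Group.IsSolvable ↥((π.ker.map N.subtype).map (QuotientGroup.mk' K)) :=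
      Group.isSolvable_of_surjective (f := (QuotientGroup.mk' K).subgroupMap (π.ker.map N.subtype))
        ((QuotientGroup.mk' K).subgroupMap_surjective _)
    exact Group.isSolvable_of_isSolvable_injective (f := inclusion h5) (inclusion_injective h5)
  rwa [QuotientGroup.ker_mk'] at h6

/-- The centralisers of the involutions have at most one component. -/
def Row1 (X : Type*) [Group X] : Prop :=
  ∀ t : X, orderOf t = 2 → OneComp ↥(centralizer ({t} : Set X))

theorem Row1.congr {X Y : Type*} [Group X] [Group Y] (e : X ≃* Y) (h : Row1 X) : Row1 Y := by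
  intro t ht
  have h1 := h (e.symm t) (by rw [MulEquiv.orderOf_eq]; exact ht)
  have h2 := h1.congr (OC.centCongr e (e.symm t))
  rw [e.apply_symm_apply] at h2
  exact h2

theorem oneComp_conj {X : Type*} [Group X] {s : X} (h : OneComp ↥(centralizer ({s} : Set X))) (g : X) :
    OneComp ↥(centralizer ({g * s * g⁻¹} : Set X)) :=
  h.congr (OC.centCongr (MulAut.conj g) s)

theorem Row1.mk_of_classes {X : Type*} [Group X] (P : X → Prop)
    (h : ∀ t : X, orderOf t = 2 → ∃ g s : X, P s ∧ t = g * s * g⁻¹)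
    (hP : ∀ s : X, P s → OneComp ↥(centralizer ({s} : Set X))) : Row1 X := by
  intro t ht
  obtain ⟨g, s, hs, rfl⟩ := h t ht
  exact oneComp_conj (hP s hs) g

/-- a group of characteristic 2 has no component -/
theorem no_comp_of_char2 {C : Type*} [Group C] [Finite C] (h : IsOfCharacteristicTwo C) (K : Subgroup C) :
    ¬ IsComponent K := by
  intro hK
  have hn : (pCore 2 C).Normal := Cores.pCore_normal 2
  have hp := Cores.pCore_isPGroup (G := C) 2
  have hnil : Group.IsNilpotent ↥(pCore 2 C) := hp.isNilpotent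
  have h1 : ⁅K, pCore 2 C⁆ = ⊥ := component_commutator_solvable hK
    (by rw [normalizer_eq_top]; exact le_top) inferInstance
  rw [commutator_eq_bot_iff_le_centralizer] at h1
  have h2 : K ≤ pCore 2 C := h1.trans h
  refine quasisimple_not_isSolvable hK.2 ?_
  exact Group.isSolvable_of_isSolvable_injective (f := inclusion h2) (inclusion_injective h2)

theorem Row1.of_charTwo {X : Type*} [Group X] [Finite X] (h : IsCharacteristicTwoType X) : Row1 X :=
  fun _ ht => Or.inl (no_comp_of_char2 (EvenType.CharTwoCent.char2_centralizer h ht))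

/-- extensions of a solvable group by a simple group -/
theorem oneComp_of_hom {C U : Type*} [Group C] [Finite C] [Group U] (f : C →* U) (hf : Function.Surjective f)
    (hs : Group.IsSolvable f.ker) [hU : IsSimpleGroup U] (hna : ¬ IsMulCommutative U) : OneComp C := by
  have hN : Group.IsSolvable (C ⧸ (⊤ : Subgroup C)) := by
    have : Subsingleton (C ⧸ (⊤ : Subgroup C)) := QuotientGroup.subsingleton_quotient_top
    infer_instance
  refine oneComp_tower hN (f.comp (Subgroup.subtype ⊤)) ?_ ?_ hna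
  · intro u
    obtain ⟨x, rfl⟩ := hf u
    exact ⟨⟨x, mem_top x⟩, rfl⟩
  · have h1 : ∀ x : ↥(f.comp (Subgroup.subtype ⊤)).ker, ((x : ↥(⊤ : Subgroup C)) : C) ∈ f.ker := fun x => x.2
    exact Group.isSolvable_of_isSolvable_injective
      (f := (((Subgroup.subtype ⊤).comp (Subgroup.subtype (f.comp (Subgroup.subtype ⊤)).ker)).codRestrict f.ker h1))
      (fun a b h => by
        have h2 : ((a : ↥(⊤ : Subgroup C)) : C) = ((b : ↥(⊤ : Subgroup C)) : C) :=
          congrArg (Subtype.val : ↥f.ker → C) h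
        exact Subtype.ext (Subtype.ext h2))

/-- a group whose elements are `1` and `w` is solvable -/
theorem isSolvable_of_two {C U : Type*} [Group C] [Group U] {f : C →* U} {w : C}
    (h : ∀ x, f x = 1 → x = 1 ∨ x = w) : Group.IsSolvable f.ker := by
  apply Group.isSolvable_of_comm
  intro a b
  apply Subtype.ext
  rw [Subgroup.coe_mul, Subgroup.coe_mul]
  rcases h a a.2 with h1 | h1
  · rw [h1, one_mul, mul_one]
  · rcases h b b.2 with h2 | h2
    · rw [h2, one_mul, mul_one]
    · rw [h1, h2]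

/-- a simple group of composite order is not commutative -/
theorem na_of_card {U : Type*} [Group U] [Finite U] [IsSimpleGroup U] (hcU : ¬ (Nat.card U).Prime) :
    ¬ IsMulCommutative U := by
  intro h
  have hc : ∀ a b : U, a * b = b * a := fun a b => h.is_comm.comm a b
  let _ : CommGroup U := { (inferInstance : Group U) with mul_comm := hc }
  exact hcU IsSimpleGroup.prime_card

/-! ### At one involution -/

/-- **one component**: `N ≤ C(t)` is quasisimple and contains the perfect subgroups of `C(t)` -/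
theorem oneComp_of_comp {X : Type*} [Group X] [Finite X] {C N : Subgroup X} (hN : IsQuasisimple ↥N)
    (hNC : N ≤ C) (hperf : ∀ P : Subgroup X, P ≤ C → ⁅P, P⁆ = P → P ≤ N) : OneComp ↥C :=
  Or.inr (hasOne_of_perfect_le hN hNC hperf)

/-- a normal `p`-subgroup containing its centraliser -/
theorem oneComp_of_pGroup {p : ℕ} [Fact p.Prime] {X : Type*} [Group X] [Finite X] {C R : Subgroup X} (hRC : R ≤ C)
    (hn : ∀ c ∈ C, ∀ r ∈ R, c * r * c⁻¹ ∈ R) (hp : IsPGroup p ↥R)
    (hc : ∀ c ∈ C, (∀ r ∈ R, c * r = r * c) → c ∈ R) : OneComp ↥C :=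
  oneComp_of_none (CTwoTab.no_comp_of_pGroup hRC hn hp hc)

theorem oneComp_of_large {X : Type*} [Group X] [Finite X] {Q : Subgroup X} {z : X}
    (h : Cfsg.Agent.Co2Type.Quad.Large Q z) : OneComp ↥(centralizer ({z} : Set X)) :=
  oneComp_of_none (CTwoTab.no_comp_of_large h)

theorem Row1.mk_of_isConj {X : Type*} [Group X] (P : X → Prop)
    (h : ∀ t : X, t * t = 1 → t ≠ 1 → ∃ s : X, P s ∧ IsConj s t)
    (hP : ∀ s : X, P s → OneComp ↥(centralizer ({s} : Set X))) : Row1 X := by
  refine Row1.mk_of_classes P (fun t ht => ?_) hP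
  have h1 : t * t = 1 := by rw [← pow_two, ← ht, pow_orderOf_eq_one]
  have h2 : t ≠ 1 := by
    rintro rfl
    rw [orderOf_one] at ht
    omega
  obtain ⟨s, hs, hc⟩ := h t h1 h2
  obtain ⟨g, hg⟩ := isConj_iff.1 hc
  exact ⟨g, s, hs, hg.symm⟩

end Cfsg.Agent.H73
end
end

-- part: H73/SporCo1_mg
section
set_option linter.all false
open scoped Cfsg.Agent.FastGrp

-- part: H73/SporCo1
section
/-!
# `Co₁` (helper73)
-/

set_option autoImplicit false

open Cfsg

namespace Cfsg.Agent.H73.Spo.SCo1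

open Cfsg.Agent.SporadicA.Co0Mono
open Cfsg.Agent.SporadicA.GolayBase Cfsg.Agent.SporadicA.GolayPerm
open Cfsg.Agent.CoOneType.SignFacts (wt wt_add_allOne sign_allOne_comm)
open Cfsg.Agent.CoOneType.ClosingFacts (mk mk_mul mk_inv exists_mk mk_eq_one mk_eq)
open Cfsg.Agent.KFacts.Co1D4
open Cfsg.Agent.CTwoTab Cfsg.Agent.CTwoTab.Co1

theorem row0 : Row1 Cfsg.Spor.Co1 := by
  refine Row1.mk_of_classes Rep exists_rep ?_
  rintro s (⟨o, ho, rfl⟩ | ⟨d, hd, rfl⟩ | rfl)
  · exact oneComp_of_none (ctr_octad ho).no_comp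
  · exact oneComp_of_none (ctr_dodecad hd).no_comp
  · have S := Main.setup
    refine oneComp_of_comp quasisimple_L ?_ ?_
    · intro l hl
      exact Subgroup.mem_centralizer_singleton_iff.2 (TwoB.Lw l hl)
    · intro P hP hPP
      exact S.le_of_perfect hPP fun p hp => Subgroup.mem_centralizer_singleton_iff.1 (hP hp)

/-- **`Co₁`** -/
theorem row {X : Type*} [Group X] (h : Cfsg.Spor.IsoCo1 X) : Row1 X := by
  obtain ⟨e⟩ := h
  exact row0.congr e.symm

end Cfsg.Agent.H73.Spo.SCo1
end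

-- part: H73/SporHN
section
/-!
# `HN` (helper73)
-/

set_option autoImplicit false

namespace Cfsg.Agent.H73.Spo.SHN

open Subgroup Cfsg Cfsg.Agent.KFacts.HN Cfsg.Agent.HN.XWords Cfsg.Agent.HN.XStruct
open Cfsg.Agent.HN Cfsg.Agent.HN.Pres Cfsg.Agent.HN.P1408 Cfsg.Agent.HN.H0Basic
open Cfsg.Agent.CTwoTab Cfsg.Agent.CTwoTab.HN

theorem row0 : Row1 Spor.HN := by
  have := finite_HN
  refine Row1.mk_of_classes (fun s => s = W0 ∨ s = Q 0) ?_ ?_
  · intro t ht
    have h1 : t * t = 1 := by rw [← pow_two, ← ht, pow_orderOf_eq_one]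
    have h2 : t ≠ 1 := fun h => by rw [h, orderOf_one] at ht; omega
    rcases OddHalf.D4.Spor.HN.inv_cases h1 h2 with ⟨g, hg⟩ | ⟨g, hg⟩
    · exact ⟨g, W0, Or.inl rfl, hg.symm⟩
    · exact ⟨g, Q 0, Or.inr rfl, hg.symm⟩
  · rintro s (rfl | rfl)
    · exact oneComp_of_none no_comp_W0
    · exact oneComp_of_comp (N := CTwoTab.HN.N) qs_N N_le le_N

/-- **`HN`** -/
theorem row {X : Type*} [Group X] (h : Cfsg.Spor.IsoHN X) : Row1 X := by
  obtain ⟨e⟩ := h
  exact row0.congr e.symm

end Cfsg.Agent.H73.Spo.SHN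
end
end

-- part: H73/SporFi24_mg
section
set_option linter.all false

-- part: H73/SporFi24
section
/-!
# `Fi24'` (helper73)
-/

set_option autoImplicit false

namespace Cfsg.Agent.H73.Spo.SFi24

open Cfsg Cfsg.Spor Cfsg.Agent.R01 Cfsg.Agent.R08 Cfsg.Agent.R08.FiTwentyFour
open Cfsg.Agent.R08.TetTwo Cfsg.Agent.R08.TetThree Cfsg.Agent.R08.TetBasic
open Subgroup Cfsg.Agent.CTwoTab Cfsg.Agent.CTwoTab.FiTF

theorem row0 : Row1 Spor.Fi24' := by
  have := finite_Fi24
  have : Finite Spor.Fi24' := inferInstance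
  intro t ht
  rcases classes t ht with ⟨a, b, P, h⟩ | ⟨g, rfl⟩
  · exact oneComp_of_comp (qs_N P) (N_le h) (perf_le P h)
  · have : Fact (Nat.Prime 2) := ⟨Nat.prime_two⟩
    refine oneComp_conj (oneComp_of_pGroup R0_le R0_norm R0_p fun c _ h => ?_) g
    rcases R0_cent c h with rfl | rfl
    · exact R0.one_mem
    · exact z0_mem

/-- **`Fi24'`** -/
theorem row {X : Type*} [Group X] (h : Cfsg.Spor.IsoFi24' X) : Row1 X := by
  obtain ⟨e⟩ := h
  exact row0.congr e.symm

end Cfsg.Agent.H73.Spo.SFi24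
end

-- part: H73/SporHe
section
/-!
# `He` (helper73)
-/

set_option autoImplicit false

namespace Cfsg.Agent.H73.Spo.SHe

open Subgroup Cfsg Cfsg.Spor Cfsg.Spor.He
open Cfsg.Agent.SporadicRecognition.HeldModel
open Cfsg.Agent.KFacts.He.Lv Cfsg.Agent.KFacts.He.TwoACent Cfsg.Agent.KFacts.He.TwoAPlane
open Cfsg.Agent.SporadicA.FieldFour
open Cfsg.Agent.CTwoTab Cfsg.Agent.CTwoTab.He

theorem row0 : Row1 Cfsg.Spor.He := by
  have hfin := Cfsg.Agent.KFacts.He.Hyp.finHe
  refine Row1.mk_of_isConj (fun s => s = z ∨ s = gn .a) (fun a haa ha1 => ?_) ?_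
  · rcases classes haa ha1 with h | h
    · exact ⟨z, Or.inl rfl, h⟩
    · exact ⟨gn .a, Or.inr rfl, h⟩
  · rintro s (rfl | rfl)
    · exact oneComp_of_none no_comp_z
    · exact oneComp_of_comp Cfsg.Agent.KFacts.He.TwoA.isQuasisimple_L L_le_cent perfect_le_L

/-- **`He`** -/
theorem row {X : Type*} [Group X] (h : Cfsg.Spor.IsoHe X) : Row1 X := by
  obtain ⟨e⟩ := h
  exact row0.congr e.symm

end Cfsg.Agent.H73.Spo.SHe
end
end

-- part: H73/SporC2_mg
section
set_option linter.all false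
open scoped Cfsg.Agent.FastGrp

-- part: H73/SporC2
section
/-!
# The sporadic groups of characteristic 2 type (helper73)
-/

set_option autoImplicit false

open Cfsg Subgroup

namespace Cfsg.Agent.H73.Spo

open Cfsg.Agent

theorem M11 {G : Type*} [Group G] [Finite G] (h : Spor.IsoM11 G) : Row1 G :=
  Row1.of_charTwo (OddHalf.Small.M11.charTwo_of_iso h)

theorem M22 {G : Type*} [Group G] [Finite G] (h : Spor.IsoM22 G) : Row1 G :=
  Row1.of_charTwo (OddHalf.Small.Mathieu.m22 h)

theorem M23 {G : Type*} [Group G] [Finite G] (h : Spor.IsoM23 G) : Row1 G :=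
  Row1.of_charTwo (OddHalf.Small.Mathieu.m23 h)

theorem M24 {G : Type*} [Group G] [Finite G] (h : Spor.IsoM24 G) : Row1 G :=
  Row1.of_charTwo (OddHalf.Small.M24Char.m24 h)

theorem J3 {G : Type*} [Group G] [Finite G] (h : Spor.IsoJ3 G) : Row1 G :=
  Row1.of_charTwo (OddHalf.Small.J3.j3 G h)

theorem J4 {G : Type*} [Group G] [Finite G] (h : Spor.IsoJ4 G) : Row1 G :=
  Row1.of_charTwo (SevenCases.SporJ4.charTwo h)

theorem Co2 {G : Type*} [Group G] [Finite G] (h : Spor.IsoCo2 G) : Row1 G :=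
  Row1.of_charTwo (SevenCases.SporCo2.charTwo h)

theorem Th {G : Type*} [Group G] [Finite G] (h : Spor.IsoTh G) : Row1 G :=
  Row1.of_charTwo (SevenCases.SporTh.charTwo h)

end Cfsg.Agent.H73.Spo
end

-- part: H73/SporJ1
section
/-!
# `J₁` (helper73)
-/

set_option autoImplicit false

namespace Cfsg.Agent.H73.Spo.SJ1

open Subgroup Cfsg Cfsg.Agent.H7.JOneStd

universe u

/-- a group of order 2 is solvable -/
theorem isSolvable_of_card_two {Q : Type*} [Group Q] (h : Nat.card Q = 2) : Group.IsSolvable Q := by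
  have : Fact (Nat.Prime 2) := ⟨Nat.prime_two⟩
  have hc : IsCyclic Q := isCyclic_of_prime_card h
  exact Group.isSolvable_of_comm fun a b => IsCyclic.commutative.is_comm.comm a b

/-- **`J₁`** -/
theorem row {X : Type u} [Group X] (h : Cfsg.Spor.IsoJ1 X) : Row1 X := by
  intro t ht
  have ho : H7.JOneStd.Ord X := by
    obtain ⟨e⟩ := h
    exact H7.JOneStd.Ord.congr e ord_J1
  have tt : t * t = 1 := by rw [← pow_two, ← ht, pow_orderOf_eq_one]
  have t1 : t ≠ 1 := by
    rintro rfl
    rw [orderOf_one] at ht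
    omega
  by_cases hno : ∀ K : Subgroup ↥(centralizer ({t} : Set X)), ¬ IsComponent K
  · exact Or.inl hno
  right
  push Not at hno
  obtain ⟨K, hK⟩ := hno
  obtain ⟨h1, h2, -, -⟩ := std_of_iso h ht K hK
  refine ⟨K, h2, hK.2, isSolvable_of_card_two ?_⟩
  have h3 := K.card_mul_index
  rw [h1, ho.cen t tt t1] at h3
  have h4 : K.index = Nat.card (↥(centralizer ({t} : Set X)) ⧸ K) := rfl
  omega

end Cfsg.Agent.H73.Spo.SJ1
end
end

-- part: H73/SporJ2_mg
section
set_option linter.all false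
open scoped Cfsg.Agent.FastGrp

-- part: H73/SporJ2
section
/-!
# `J₂` (helper73)
-/

set_option autoImplicit false

namespace Cfsg.Agent.H73.Spo.SJ2

open Subgroup Cfsg Cfsg.Agent.J2Type.Model Cfsg.Agent.J2Type.SPFacts Cfsg.Agent.J2Type.CStruct
open Cfsg.Agent.J3Type.OneClass Cfsg.Agent.J2Type.Base Cfsg.Agent.KFacts.J2.Basic
open Cfsg.Agent.Co2Type.Quad Cfsg.Agent.KFacts.AutLarge Cfsg.Agent.KFacts.J3Sheet
open Cfsg.Agent.KFacts Cfsg.Agent.OddHalf.D4.Spor Cfsg.Agent.OddHalf.D4.Spor.JTwo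
open Cfsg.Agent.CTwoTab Cfsg.Agent.CTwoTab.JTwo

variable {X : Type*} [Group X] {t u : X} {Q : Subgroup (centralizer ({t} : Set X))}
  {v : Fin 5 → centralizer ({t} : Set X)} {ρ : centralizer ({t} : Set X) →* SP}

theorem at_t [Finite X] (D : Dat t u Q v ρ) : OneComp ↥(centralizer ({t} : Set X)) := by
  have hp2 : Fact (Nat.Prime 2) := ⟨Nat.prime_two⟩
  have hL := large D.cardC D.M
  have S := QMinus.sheet D.cardC D.M
  refine oneComp_of_pGroup (p := 2) (R := Q.map (centralizer ({t} : Set X)).subtype) (map_subtype_le _) ?_ ?_ ?_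
  · intro c hc r hr
    exact hL.conj_mem c (mem_cent.1 hc) r hr
  · rw [IsPGroup.iff_card]
    exact ⟨5, by rw [S.card]; norm_num⟩
  · intro c _ h
    rcases cen_Q D h with rfl | rfl
    · exact one_mem _
    · exact t_mem_Q D

theorem at_u [Finite X] (D : Dat t u Q v ρ) : OneComp ↥(centralizer ({u} : Set X)) := by
  obtain ⟨f, U, V, H0, F⟩ := Cfsg.Agent.J2Type.CentU.main D.F
  obtain ⟨e⟩ := equiv_H0 D F
  have hs := simple_H0 D F
  refine oneComp_of_comp (N := H0) (isQuasisimple_of_simple (na_alt le_rfl e)) F.str.le ?_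
  exact fun P hP hperf => perfect_le_of_sq (fun a ha => F.str.sq_mem a ha) P hP hperf

/-- **`J₂`** -/
theorem row {X : Type*} [Group X] [Finite X] (h : Cfsg.Spor.IsoJ2 X) : Row1 X := by
  obtain ⟨t, u, Q, v, ρ, D⟩ := Cfsg.Agent.KFacts.J2.Facts.exists_dat_of h
  refine Row1.mk_of_isConj (fun s => s = t ∨ s = u) (fun a haa ha1 => ?_) ?_
  · rcases D.F.cover a (orderOf_two haa ha1) with h | h
    · exact ⟨t, Or.inl rfl, h⟩
    · exact ⟨u, Or.inr rfl, h⟩
  · rintro s (rfl | rfl)
    · exact at_t D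
    · exact at_u D

end Cfsg.Agent.H73.Spo.SJ2
end

-- part: H73/SporM
section
/-!
# The Monster (helper73)
-/

set_option autoImplicit false

namespace Cfsg.Agent.H73.Spo.SM

open Subgroup Cfsg Cfsg.Agent.CTwoTab Cfsg.Agent.MonsterX.Model Cfsg.Agent.MonsterX.MainPack
  Cfsg.Agent.MonsterX.MainSimple Cfsg.Agent.MonsterX.MainBasic Cfsg.Agent.MonsterU.Assembly
open Cfsg.Agent.CTwoTab.MonsterOf

section model

variable {W : Type} [AddCommGroup W] [Module ℚ W] {M : MData W} {K₀ : Type} [Group K₀]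

theorem row_of (A : All M K₀) {y : ℕ → M.G} (hP : Cfsg.Agent.Bimonster.PRel y) (hne : y 0 ≠ y 1)
    (hy : ∃ g : M.G, g * tG A.hG A.hR * g⁻¹ = y 10) (hB : Cfsg.IsB Cfsg.Spor.BabyMonster) : Row1 M.G := by
  have := G_finite A.hO
  refine Row1.mk_of_classes (fun s => s = zG A.hG ∨ s = tG A.hG A.hR) ?_ ?_
  · intro u hu
    have hu1 : u ≠ 1 := by
      rintro rfl
      rw [orderOf_one] at hu
      exact absurd hu (by norm_num)
    have huu : u * u = 1 := by rw [← pow_two, ← hu, pow_orderOf_eq_one]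
    rcases A.classes u huu hu1 with ⟨g, hg⟩ | ⟨g, hg⟩
    · exact ⟨g, _, Or.inl rfl, hg.symm⟩
    · exact ⟨g, _, Or.inr rfl, hg.symm⟩
  · rintro s (rfl | rfl)
    · exact oneComp_of_none (not_comp_large (Cfsg.Agent.MonsterU.ModelChart.large A.hG A.hR A.hL A.hO A.hT))
    · exact oneComp_of_comp (quasisimple_cover hB (cover_t A hP hne hy hB)) le_rfl (fun _ hP _ => hP)

end model

theorem model : Row1 ↥Cfsg.Agent.MonsterX.InstData.M.G :=
  row_of Cfsg.Agent.MonsterU.Uncond.all
    (Cfsg.Agent.MonsterP.NodesGrp.prel Cfsg.Agent.MonsterU.NodesU.hyp)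
    (Cfsg.Agent.MonsterP.NodesNe.ne Cfsg.Agent.MonsterU.NodesU.hyp) Cfsg.Agent.MonsterU.NodesU.conj_ten
    Cfsg.Agent.S1704.result

/-- **The Monster** -/
theorem row {X : Type*} [Group X] (h : Cfsg.Spor.IsoM X) : Row1 X := by
  obtain ⟨e⟩ := h
  obtain ⟨f⟩ := Cfsg.Agent.MonsterP.Equiv.equiv
  exact model.congr (e.trans f).symm

end Cfsg.Agent.H73.Spo.SM
end
end

-- part: H73/SporFi22_mg
section
prune_inst 0x1010050044220000001800000000002020000102000000000000040009480000200400010070040010ca20d040424040011800c0421800000a000800000400000029004000340c00110000406003080c00000000000000000000000000000000000000000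
set_option linter.all false
open scoped Cfsg.Agent.FastGrp

-- part: H73/SporFi22
section
/-!
# `Fi22` (helper73)
-/

set_option autoImplicit false

namespace Cfsg.Agent.H73.Spo.SFi22

open Subgroup Cfsg Cfsg.Agent.R01.FiFusion Cfsg.Agent.R01.FiFacts Cfsg.Agent.StdFi22.TLev
open Cfsg.Agent.OddHalf.D8.Fi22
open Cfsg.Agent.OddHalf.D4.Spor.Fi22 (inv_cases bal comm_tri sq_one comm_w)
open Cfsg.Agent.StdFi22.MainFi22 (bas)
open Cfsg.Agent.R08.AutT (T)
open Cfsg.Agent.CTwoTab Cfsg.Agent.CTwoTab.Fi22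

theorem at_one {d : Spor.Fi22} (hd : d ∈ T) : OneComp ↥(centralizer ({d} : Set Spor.Fi22)) := by
  have := finite
  obtain ⟨b, c, ht⟩ := bas.exists_tri hd
  obtain ⟨R, F⟩ := facts hd ht.my ht.xy ht.cxy
  exact oneComp_of_comp F.quasi le_rfl (fun P hP _ => hP)

theorem at_two {a b : Spor.Fi22} (ha : a ∈ T) (hb : b ∈ T) (hab : a ≠ b) (cab : a * b = b * a) :
    OneComp ↥(centralizer ({a * b} : Set Spor.Fi22)) := by
  have := finite
  have hp2 : Fact (Nat.Prime 2) := ⟨Nat.prime_two⟩
  obtain ⟨R, F⟩ := facts ha hb hab cab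
  refine oneComp_of_pGroup (p := 2) (R := R) ?_ ?_ F.R_two ?_
  · intro x hx
    obtain ⟨h1, h2⟩ := mem_pair.1 (F.R_le hx)
    exact mem_centralizer_singleton_iff.2 (comm_mul h1 h2)
  · intro c hc r hr
    exact F.R_normal c (mem_centralizer_singleton_iff.1 hc) r hr
  · intro c _ h
    rcases F.R_center c h with rfl | rfl | rfl | rfl
    · exact one_mem _
    · exact F.d_mem
    · exact F.d'_mem
    · exact mul_mem F.d_mem F.d'_mem

theorem row0 : Row1 Cfsg.Spor.Fi22 := by
  have := finite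
  intro t ht
  have tt : t * t = 1 := by rw [← pow_two, ← ht, pow_orderOf_eq_one]
  have t1 : t ≠ 1 := by
    rintro rfl
    rw [orderOf_one] at ht
    omega
  rcases inv_cases tt t1 with h | ⟨a, ha, b, hb, hab, cab, rfl⟩ | ⟨a, b, c, h, rfl⟩
  · exact at_one h
  · exact at_two ha hb hab cab
  · exact oneComp_of_none (no_comp_three h)

/-- **`Fi22`** -/
theorem row {X : Type*} [Group X] (h : Cfsg.Spor.IsoFi22 X) : Row1 X := by
  obtain ⟨e⟩ := h
  exact row0.congr e.symm

end Cfsg.Agent.H73.Spo.SFi22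
end

-- part: H73/SporM12
section
/-!
# `M₁₂` (helper73)
-/

set_option autoImplicit false

namespace Cfsg.Agent.H73.Spo.SM12

open Subgroup Cfsg Cfsg.Agent.CoThreeStd.MTwelve Cfsg.Agent.CTwoTab

theorem row0 : Row1 H := by
  refine Row1.mk_of_classes (fun s => s = y ∨ s = p * r) ?_ ?_
  · intro t ht
    have tt : t * t = 1 := by rw [← pow_two, ← ht, pow_orderOf_eq_one]
    have t1 : t ≠ 1 := by
      rintro rfl
      rw [orderOf_one] at ht
      omega
    rcases inv_class t t1 tt with ⟨m, hm⟩ | ⟨m, hm⟩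
    · exact ⟨m⁻¹, y, Or.inl rfl, by rw [inv_inv]; exact hm.symm⟩
    · exact ⟨m⁻¹, p * r, Or.inr rfl, by rw [inv_inv]; exact hm.symm⟩
  · rintro s (rfl | rfl)
    · -- `⟨y⟩ × S5`
      have e : ↥((alternatingGroup (Fin 5)).map w) ≃* ↥(alternatingGroup (Fin 5)) :=
        ((alternatingGroup (Fin 5)).equivMapOfInjective w w_injective).symm
      refine oneComp_of_comp (N := (alternatingGroup (Fin 5)).map w) (quasi_alt (n := 5) le_rfl e) ?_ ?_
      · rintro _ ⟨σ, -, rfl⟩
        exact mem_centralizer_singleton_iff.2 (y_comm σ).symm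
      · intro P hP hPP
        refine perfect_le_of_sq (C := centralizer ({y} : Set H)) (fun c hc => ?_) P hP hPP
        have hsq : ∀ σ : Equiv.Perm (Fin 5), w σ * w σ ∈ (alternatingGroup (Fin 5)).map w := by
          intro σ
          refine ⟨σ * σ, ?_, map_mul w σ σ⟩
          rw [SetLike.mem_coe, Equiv.Perm.mem_alternatingGroup, Equiv.Perm.sign_mul]
          exact Int.units_mul_self _
        obtain ⟨σ, h | h⟩ := cent_y c (mem_centralizer_singleton_iff.1 hc)
        · rw [h]
          exact hsq σ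
        · have h1 : c * c = w σ * w σ := by
            rw [h]
            calc y * w σ * (y * w σ) = y * (w σ * y) * w σ := by group
              _ = y * (y * w σ) * w σ := by rw [y_comm]
              _ = (y * y) * (w σ * w σ) := by group
              _ = w σ * w σ := by rw [y_sq, one_mul]
          rw [h1]
          exact hsq σ
    · refine Or.inl fun K hK => ?_
      have h1 : Group.IsSolvable ↥(centralizer ({p * r} : Set H)) :=
        Cfsg.Agent.S0061.result 2 3 6 Nat.prime_two Nat.prime_three (by rw [card_cent_v]; norm_num)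
      exact SignalizersComponents.Components.quasisimple_not_isSolvable hK.2 inferInstance

/-- **`M₁₂`** -/
theorem row {X : Type*} [Group X] (h : Cfsg.Spor.IsoM12 X) : Row1 X := by
  obtain ⟨e⟩ := h
  exact row0.congr e.symm

end Cfsg.Agent.H73.Spo.SM12
end
end

-- part: H73/SporMcLLy
section
set_option linter.all false

/-!
# `McL`, `Ly` (helper73)
-/

set_option autoImplicit false

namespace Cfsg.Agent.H73.Spo.SMcLLy

open Subgroup Cfsg Cfsg.Agent.TypeM.Two Cfsg.Agent.McLLyComp.FactsMT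

theorem row_TM {n : ℕ} {X : Type*} [Group X] [Finite X] (h : TM n X) : Row1 X :=
  fun _ ht => oneComp_of_comp (h.cent_qs ht) le_rfl (fun _ hP _ => hP)

/-- **`McL`** -/
theorem mcl {X : Type*} [Group X] [Finite X] (h : Cfsg.Spor.IsoMcL X) : Row1 X := by
  obtain ⟨-, h1, h2, h3⟩ := Cfsg.Agent.TypeM.FactsMcL.facts h
  exact row_TM (n := 8) ⟨h1, Or.inl ⟨rfl, h2⟩, h3⟩

/-- **`Ly`** -/
theorem ly {X : Type*} [Group X] [Finite X] (h : Cfsg.Spor.IsoLy X) : Row1 X := by
  obtain ⟨-, h1, h2, h3⟩ := Cfsg.Agent.TypeM.FactsLy.facts h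
  exact row_TM (n := 11) ⟨h1, Or.inr ⟨rfl, h2⟩, h3⟩

end Cfsg.Agent.H73.Spo.SMcLLy
end

-- part: H73/SporCo3_mg
section
set_option linter.all false
open scoped Cfsg.Agent.FastGrp

-- part: H73/SporCo3
section
/-!
# `Co₃` (helper73)
-/

set_option autoImplicit false

open Cfsg Subgroup

namespace Cfsg.Agent.H73.Spo.SCo3

open Cfsg.Agent.SporRec.Co3.Chain Cfsg.Agent.SporRec.Co3.Ident
open Cfsg.Agent.CTwoTab Cfsg.Agent.CTwoTab.Co3

theorem row0 : Row1 Cfsg.Spor.Co3 := by
  obtain ⟨w, D⟩ := exists_data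
  have := finite_G3
  have hs := D.simple
  have hc : Nat.card Cfsg.Spor.M12 = 95040 := D.card
  have hf : Finite Cfsg.Spor.M12 := Nat.finite_of_card_ne_zero (by rw [hc]; norm_num)
  have hna : ¬ IsMulCommutative Cfsg.Spor.M12 := na_of_card (by rw [hc]; norm_num)
  refine Row1.congr SporRec.Co3.Model.equivCo3 (Row1.mk_of_classes (fun s => s = Z ∨ s = w) ?_ ?_)
  · intro s hs
    obtain ⟨g, rfl | rfl⟩ := D.cls s hs
    · exact ⟨g, _, Or.inl rfl, rfl⟩
    · exact ⟨g, _, Or.inr rfl, rfl⟩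
  · rintro s (rfl | rfl)
    · obtain ⟨π, N⟩ := D.ns
      exact oneComp_of_comp (quasi_of_NS N) le_rfl (fun _ hP _ => hP)
    · obtain ⟨f, hf, hk⟩ := D.hom
      exact oneComp_of_hom f hf (isSolvable_of_two (w := ⟨s, mem_centralizer_singleton_iff.2 rfl⟩)
        fun x hx => (hk x hx).imp id Subtype.ext) hna

/-- **`Co₃`** -/
theorem row {X : Type*} [Group X] (h : Cfsg.Spor.IsoCo3 X) : Row1 X := by
  obtain ⟨e⟩ := h
  exact row0.congr e.symm

end Cfsg.Agent.H73.Spo.SCo3
end

-- part: H73/SporON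
section
/-!
# `ON` (helper73)
-/

set_option autoImplicit false

namespace Cfsg.Agent.H73.Spo.SON

open Subgroup Cfsg
open Cfsg.Spor (ON)
open Cfsg.Agent.SporadicB.ON45Word (on LW)
open Cfsg.Agent.KFacts.ON.Cent (hON)
open Cfsg.Agent.KFacts.ON.OneClass
open Cfsg.Agent.KFacts.ON.Words Cfsg.Agent.KFacts.ON.Struct Cfsg.Agent.KFacts.ON.Qs Cfsg.Agent.KFacts.ON.Aut
open Cfsg.Agent.ONType
open Cfsg.Agent.ONType.TupK (K0)

theorem der' : 
    ⁅centralizer ({on .f} : Set ON), centralizer ({on .f} : Set ON)⁆ ≤ J := der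

theorem row0 : Row1 Spor.ON := by
  have hfin : Finite Spor.ON := finite_ON
  refine Row1.mk_of_isConj (fun s => s = on .f) (fun a haa ha1 => ⟨_, rfl, (one_class haa ha1).symm⟩) ?_
  rintro s rfl
  refine oneComp_of_comp (N := J) qs ?_ ?_
  · exact fun x hx => mem_centralizer_singleton_iff.2 (Cfsg.Agent.KFacts.ON.Struct.mem_K0.1 (J_le hx))
  · intro P hP hPP
    rw [← hPP]
    exact (commutator_mono hP hP).trans der'

/-- **`ON`** -/
theorem row {X : Type*} [Group X] (h : Cfsg.Spor.IsoON X) : Row1 X := by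
  obtain ⟨e⟩ := h
  exact row0.congr e.symm

end Cfsg.Agent.H73.Spo.SON
end
end

-- part: H73/SporRu_mg
section
set_option linter.all false

-- part: H73/SporRu
section
/-!
# `Ru` (helper73)
-/

set_option autoImplicit false

namespace Cfsg.Agent.H73.Spo.SRu

open Subgroup Cfsg Cfsg.Agent.RuB Cfsg.Agent.RuB.Core Cfsg.Agent.RuB.Count Cfsg.Agent.RuB.NormQ
open Cfsg.Agent.RuB.NormZ Cfsg.Agent.Ru127.Form Cfsg.Agent.Ru127.Basic
open Cfsg.Agent.Ru127.FixD (DV)
open Cfsg.Agent.KFacts.Ru Cfsg.Agent.ThreePrime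
open Cfsg.Agent.CTwoTab Cfsg.Agent.CTwoTab.Ru

/-- **`Ru`** -/
theorem row {X : Type*} [Group X] [Finite X] (h : Cfsg.Spor.IsoRu X) : Row1 X := by
  obtain ⟨C, hsz, -⟩ := exists_core_sz h
  have hs : IsSimpleGroup ↥C.L := simple_sz hsz
  refine Row1.mk_of_isConj (fun s => s = C.z 1 ∨ ∃ a, a ≠ 0 ∧ s = C.v a) (fun x hxx hx1 => ?_) ?_
  · rcases InvC.invol_cases C hxx hx1 with ⟨g, hg⟩ | ⟨g, a, ha, hg⟩
    · exact ⟨C.z 1, Or.inl rfl, isConj_iff.2 ⟨g, hg⟩⟩
    · exact ⟨C.v a, Or.inr ⟨a, ha, rfl⟩, isConj_iff.2 ⟨g, hg⟩⟩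
  · rintro s (rfl | ⟨a, ha, rfl⟩)
    · exact oneComp_of_none (no_comp_z C)
    · exact oneComp_of_comp (N := C.L) (isQuasisimple_of_simple (na_L C)) (le_cent C a) (perfect_le_L C ha)

end Cfsg.Agent.H73.Spo.SRu
end

-- part: H73/SporSuz
section
/-!
# `Suz` (helper73)
-/

set_option autoImplicit false

namespace Cfsg.Agent.H73.Spo.SSuz

open Subgroup Cfsg Cfsg.Spor
open Cfsg.Agent.SporadicRecognition.SuzOrder Cfsg.Agent.SuzThree.Basic Cfsg.Agent.SuzThree.CentA
  Cfsg.Agent.KFacts.SuzLFour Cfsg.Agent.KFacts.SuzTwoB Cfsg.Agent.CTwoTab.SuzPlane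
open Cfsg.Agent.CTwoTab Cfsg.Agent.CTwoTab.Suz

theorem row0 : Row1 Cfsg.Spor.Suz := by
  have hfin := finSuz
  refine Row1.mk_of_isConj (fun s => s = z0 ∨ s = e0) (fun a haa ha1 => ?_) ?_
  · rcases classes haa ha1 with h | h
    · exact ⟨z0, Or.inl rfl, h⟩
    · exact ⟨e0, Or.inr rfl, h⟩
  · rintro s (rfl | rfl)
    · exact oneComp_of_large KFacts.SuzLarge.large
    · exact oneComp_of_comp quasi_L L_le_CE perfect_le_L

/-- **`Suz`** -/
theorem row {X : Type*} [Group X] (h : Cfsg.Spor.IsoSuz X) : Row1 X := by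
  obtain ⟨e⟩ := h
  exact row0.congr e.symm

end Cfsg.Agent.H73.Spo.SSuz
end
end

-- part: H73/SporFi23_mg
section
prune_inst 0x2010440030220000000000000000002000000002000000000000010200410000000400010a2000001002000000020040000800004020000000000800000400000020004000001000000000006000000000000000000000000000000000000000000000000
set_option linter.all false
open scoped Cfsg.Agent.FastGrp

-- part: H73/SporFi23
section
/-!
# `Fi23` (helper73)
-/

set_option autoImplicit false
set_option maxRecDepth 100000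

namespace Cfsg.Agent.H73.Spo.SFi23

open Subgroup Cfsg
open Cfsg.Agent.Fischer.Fi23Z Cfsg.Agent.Fischer.Fi23Hom
open Cfsg.Agent.Fischer Cfsg.Agent.Fischer.Fi23Class Cfsg.Agent.Fischer.Fi23Simple
open Cfsg.Agent.KFacts.FiTTh.Cent
open Cfsg.Spor Cfsg.Spor.Fi23
open Cfsg.Agent.CTwoTab Cfsg.Agent.CTwoTab.Fi23 Cfsg.Agent.CTwoTab.Fi23Res

theorem comp_two : OneComp ↥(centralizer ({W2} : Set Fi23)) := by
  have hfin := finite_Fi23
  obtain ⟨hUs, hUna⟩ := simple_U
  obtain ⟨π, hπ, hk⟩ := exists_pi2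
  have hz2 : z0 ∈ centralizer Ds2 := mem_cent2.2 ⟨rfl, comm_za⟩
  have ha2 : gen .a ∈ centralizer Ds2 := mem_cent2.2 ⟨za, rfl⟩
  have hcard : Ds2.ncard ≤ 3 := by
    unfold Ds2
    exact (Set.ncard_insert_le _ _).trans (by rw [Set.ncard_singleton]; norm_num)
  obtain ⟨hN, hsol, hcen⟩ := Tower.tower_data (W := W2) (s := Ds2) (fun y hy x hx => perm2 hy hx) hcard
    (by rintro x (rfl | rfl); exacts [hz2, ha2]) (fun x hx => (hWD2 x hx).symm)
  have hsub : centralizer Ds2 ≤ centralizer ({W2} : Set Fi23) := by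
    intro x hx
    rw [mem_cent2] at hx
    rw [mem_centralizer_singleton_iff]
    unfold W2
    rw [← mul_assoc, hx.1, mul_assoc, hx.2, mul_assoc]
  have hker2 : IsPGroup 2 ↥(Tower.proj hsub π).ker := by
    intro x
    refine ⟨1, ?_⟩
    have h1 := (hk _).1 x.2
    have h2 : ((x : ↥((centralizer Ds2).subgroupOf (centralizer ({W2} : Set Fi23)))) : ↥(centralizer ({W2} : Set Fi23))).1 *
        ((x : ↥((centralizer Ds2).subgroupOf (centralizer ({W2} : Set Fi23)))) : ↥(centralizer ({W2} : Set Fi23))).1 = 1 := by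
      rcases h1 with h1 | h1 | h1 | h1
      · have h3 : (x : ↥((centralizer Ds2).subgroupOf (centralizer ({W2} : Set Fi23)))).1.1 = 1 := h1
        rw [h3, one_mul]
      · have h3 : (x : ↥((centralizer Ds2).subgroupOf (centralizer ({W2} : Set Fi23)))).1.1 = z0 := h1
        rw [h3, KFacts.FiTTh.Cent.zz]
      · have h3 : (x : ↥((centralizer Ds2).subgroupOf (centralizer ({W2} : Set Fi23)))).1.1 = gen .a := h1
        rw [h3, aa]
      · have h3 : (x : ↥((centralizer Ds2).subgroupOf (centralizer ({W2} : Set Fi23)))).1.1 = z0 * gen .a := h1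
        rw [h3]
        calc z0 * gen .a * (z0 * gen .a) = z0 * (gen .a * z0) * gen .a := by group
          _ = (z0 * z0) * (gen .a * gen .a) := by rw [za]; group
          _ = 1 := by rw [KFacts.FiTTh.Cent.zz, aa, one_mul]
    apply Subtype.ext
    apply Subtype.ext
    apply Subtype.ext
    rw [pow_one, pow_two]
    exact h2
  have hsolk : Group.IsSolvable ↥(Tower.proj hsub π).ker := by
    have : Fact (Nat.Prime 2) := ⟨Nat.prime_two⟩
    have := hker2.isNilpotent
    infer_instance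
  exact oneComp_tower hsol (Tower.proj hsub π) (Tower.proj_surjective hsub hπ) hsolk hUna

theorem row0 : Row1 Fi23 := by
  have hfin := finite_Fi23
  apply Row1.mk_of_classes (fun s => s = z0 ∨ s = W2 ∨ s = W3)
  · intro t ht
    have h1 : t * t = 1 := by
      have := pow_orderOf_eq_one t
      rwa [ht, pow_two] at this
    have h2 : t ≠ 1 := by
      rintro rfl
      rw [orderOf_one] at ht
      omega
    rcases KFacts.FiTTh.Has.inv t h1 h2 with h | h | h
    · obtain ⟨g, hg⟩ := isConj_iff.1 h.symm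
      exact ⟨g, z0, Or.inl rfl, hg.symm⟩
    · obtain ⟨g, hg⟩ := isConj_iff.1 h.symm
      exact ⟨g, W2, Or.inr (Or.inl rfl), hg.symm⟩
    · obtain ⟨g, hg⟩ := isConj_iff.1 h.symm
      exact ⟨g, W3, Or.inr (Or.inr rfl), hg.symm⟩
  · rintro s (rfl | rfl | rfl)
    · exact oneComp_of_comp KFacts.FiTTh.Quasi.qs le_rfl (fun _ hP _ => hP)
    · exact comp_two
    · exact oneComp_of_none (three_data Fi23Fin.hU).2

/-- **`Fi23`** -/
theorem row {X : Type*} [Group X] (h : Cfsg.Spor.IsoFi23 X) : Row1 X := by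
  obtain ⟨e⟩ := h
  exact row0.congr e.symm

end Cfsg.Agent.H73.Spo.SFi23
end

-- part: H73/SporB
section
/-!
# The Baby Monster (helper73)

`row0 : AllKnown → Row1 Spor.BabyMonster`.
-/

set_option autoImplicit false
set_option maxRecDepth 100000
set_option linter.unusedSectionVars false

open Subgroup

namespace Cfsg.Agent.H73.Spo.SB

open Cfsg Cfsg.Agent.CTwoTab Cfsg.Agent.BabyComp

universe u v

/-- a perfect subgroup lies in a normal self-centralising subgroup with the Schreier property -/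
theorem perfect_le_of_sch {F : Type*} [Group F] {L : Subgroup F} [L.Normal] (hC : centralizer (L : Set F) = ⊥)
    (hS : Schreier.Basic.Sch ↥L) {D : Subgroup F} (hD : ⁅D, D⁆ = D) : D ≤ L := by
  let φ : F →* MulAut ↥L := MulAut.conjNormal
  intro x hx
  have h1 : ⁅D.map φ, D.map φ⁆ = D.map φ := by rw [← Subgroup.map_commutator, hD]
  obtain ⟨y, hy⟩ := hS _ h1 (Subgroup.mem_map_of_mem φ hx)
  have h2 : φ ((y : F)⁻¹ * x) = 1 := by
    rw [map_mul, map_inv, ← hy]
    have h3 : φ (y : F) = MulAut.conj y := by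
      ext z
      simp [φ, MulAut.conjNormal_apply, MulAut.conj_apply]
    rw [h3, inv_mul_cancel]
  have h3 : (y : F)⁻¹ * x ∈ centralizer (L : Set F) := by
    rw [mem_centralizer_iff]
    intro l hl
    have h4 := congrArg (fun f : MulAut ↥L => ((f ⟨l, hl⟩ : ↥L) : F)) h2
    simp only [φ, MulAut.conjNormal_apply, MulAut.one_apply] at h4
    rw [mul_inv_eq_iff_eq_mul] at h4
    exact h4.symm
  rw [hC, mem_bot, inv_mul_eq_one] at h3
  rw [← h3]
  exact y.2

/-- the section: the centraliser of `t` -/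
theorem one_of_sec {X E : Type*} [Group X] [Finite X] [Group E] [IsSimpleGroup E] (hna : ¬ IsMulCommutative E)
    {t : X} {X₀ : Subgroup X} {σ : ↥X₀ →* E} (H : Sec.Data t σ) : OneComp ↥(centralizer ({t} : Set X)) := by
  have hle : X₀ ≤ centralizer ({t} : Set X) := fun m hm => mem_centralizer_singleton_iff.2 (H.comm m hm)
  have hn : (X₀.subgroupOf (centralizer ({t} : Set X))).Normal := by
    constructor
    intro m hm g
    exact mem_subgroupOf.2 (H.nrm g (mem_centralizer_singleton_iff.1 g.2) m (mem_subgroupOf.1 hm))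
  have hsol : Group.IsSolvable (↥(centralizer ({t} : Set X)) ⧸ X₀.subgroupOf (centralizer ({t} : Set X))) := by
    apply isSolvable_quotient hn
    intro L hL x hx
    exact mem_subgroupOf.2 (H.perf (L.map (centralizer ({t} : Set X)).subtype) (map_subtype_le L)
      (by rw [← Subgroup.map_commutator, hL]) (mem_map_of_mem _ hx))
  let e : ↥(X₀.subgroupOf (centralizer ({t} : Set X))) ≃* ↥X₀ := subgroupOfEquivOfLe hle
  refine oneComp_tower hsol (σ.comp e.toMonoidHom) (H.surj.comp e.surjective) ?_ hna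
  apply isSolvable_of_two (w := ⟨⟨t, mem_centralizer_singleton_iff.2 rfl⟩, mem_subgroupOf.2 H.mem⟩)
  intro x hx
  rcases (H.ker (e x)).1 hx with h | h
  · left
    exact Subtype.ext (Subtype.ext h)
  · right
    exact Subtype.ext (Subtype.ext h)

section two

variable {X : Type u} [Group X] [Finite X] {E : Type v} [Group E] [Finite E]

/-- **Case II.** -/
theorem case_two (hS : Schreier.Cases.SchFor.{v} @IsKnownSimple') (hkn : CpAut.AllKnown.{v})
    (hE : ∀ v : E, orderOf v = 2 → IsOfCharacteristicTwo ↥(centralizer ({v} : Set E)))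
    {T : Set X} (HT : Pair.Trans T)
    (hsec : ∀ d ∈ T, ∃ (X₀ : Subgroup X) (σ : ↥X₀ →* E), Sec.Data d σ)
    {u d : X} (hu : u * u = 1) (hu1 : u ≠ 1) (hd : d ∈ T) (hc : u * d = d * u) (hud : u * d ∈ T)
    (hb : centralizerPPrimeCore 2 u = ⊥)
    (hperm : ∀ P : Subgroup X, P ≤ centralizer ({u} : Set X) → ⁅P, P⁆ = P → P ≤ centralizer ({d} : Set X))
    {K : Subgroup X} (hK : IsComponentOf K (centralizer ({u} : Set X))) :
    HasOne ↥(centralizer ({u} : Set X)) := by
  obtain ⟨X₀, σ, H, x, L, hx2, hx, hs, hna, hLn, hCL, hct, ⟨e⟩⟩ :=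
    CaseTwo.main hE HT hsec hu hu1 hd hc hud hb hK
  have hSL : Schreier.Basic.Sch ↥L := hS ↥L hna (hkn ↥L)
  -- the perfect subgroups of `C(u)`
  have key : ∀ P : Subgroup X, P ≤ centralizer ({u} : Set X) → ⁅P, P⁆ = P →
      ∃ hP : P ≤ X₀, ∀ p (hp : p ∈ P), ∃ l ∈ L, (l : E) = σ ⟨p, hP hp⟩ := by
    intro P hPu hPP
    have hPX : P ≤ X₀ := H.perf P (hperm P hPu hPP) hPP
    refine ⟨hPX, fun p hp => ?_⟩
    set P' : Subgroup ↥X₀ := P.subgroupOf X₀ with hP'
    have h1 : ⁅P', P'⁆ = P' := by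
      apply Subgroup.map_injective X₀.subtype_injective
      rw [Subgroup.map_commutator, hP', Subgroup.subgroupOf_map_subtype, inf_eq_left.2 hPX, hPP]
    have h2 : ⁅P'.map σ, P'.map σ⁆ = P'.map σ := by rw [← Subgroup.map_commutator, h1]
    have h3 : P'.map σ ≤ fixedSubgroup x := by
      rintro _ ⟨m, hm, rfl⟩
      show x (σ m) = σ m
      rw [hx]
      congr 1
      apply Subtype.ext
      rw [Sec.cj_coe, ← mem_centralizer_singleton_iff.1 (hPu (mem_subgroupOf.1 hm)), mul_inv_cancel_right]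
    have h4 : ⁅(P'.map σ).subgroupOf (fixedSubgroup x), (P'.map σ).subgroupOf (fixedSubgroup x)⁆ =
        (P'.map σ).subgroupOf (fixedSubgroup x) := by
      apply Subgroup.map_injective (fixedSubgroup x).subtype_injective
      rw [Subgroup.map_commutator, Subgroup.subgroupOf_map_subtype, inf_eq_left.2 h3, h2]
    have h5 := perfect_le_of_sch hCL hSL h4
    have h6 : σ ⟨p, hPX hp⟩ ∈ P'.map σ := ⟨⟨p, hPX hp⟩, mem_subgroupOf.2 hp, rfl⟩
    exact ⟨⟨σ ⟨p, hPX hp⟩, h3 h6⟩, h5 (mem_subgroupOf.2 h6), rfl⟩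
  have hKq := Abs.quasisimple_of_comp hK
  have hKK : ⁅K, K⁆ = K := isPerfect_of_comp hK
  obtain ⟨hKX, hKL⟩ := key K hK.1 hKK
  -- `d ∉ K`
  have hcL : center ↥L = ⊥ := by
    rcases (inferInstance : (center ↥L).Normal).eq_bot_or_eq_top with h0 | h0
    · exact h0
    · exfalso
      apply hna
      exact ⟨⟨fun a b => by
        have hb : b ∈ center ↥L := by rw [h0]; trivial
        exact mem_center_iff.1 hb a⟩⟩
  have hdK : d ∉ K := by
    intro h
    have h1 : (⟨d, h⟩ : ↥K) ∈ center ↥K := by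
      rw [mem_center_iff]
      intro g
      exact Subtype.ext (H.comm _ (hKX g.2))
    have h2 : e ⟨d, h⟩ ∈ center ↥L := by
      rw [mem_center_iff]
      intro g
      obtain ⟨g, rfl⟩ := e.surjective g
      rw [← map_mul, ← map_mul, mem_center_iff.1 h1 g]
    rw [hcL, mem_bot, e.map_eq_one_iff] at h2
    exact H.t_ne (congrArg Subtype.val h2)
  -- `σ(K) = L`
  have hmem : ∀ k : ↥K, σ ⟨k, hKX k.2⟩ ∈ fixedSubgroup x := by
    intro k
    obtain ⟨l, -, hl⟩ := hKL k k.2
    rw [← hl]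
    exact l.2
  have hmem2 : ∀ k : ↥K, (⟨σ ⟨k, hKX k.2⟩, hmem k⟩ : ↥(fixedSubgroup x)) ∈ L := by
    intro k
    obtain ⟨l, hl, hl2⟩ := hKL k k.2
    have : (⟨σ ⟨k, hKX k.2⟩, hmem k⟩ : ↥(fixedSubgroup x)) = l := Subtype.ext hl2.symm
    rw [this]
    exact hl
  let f : ↥K → ↥L := fun k => ⟨⟨σ ⟨k, hKX k.2⟩, hmem k⟩, hmem2 k⟩
  have hf : Function.Injective f := by
    intro a b hab
    have h1 : σ ⟨a, hKX a.2⟩ = σ ⟨b, hKX b.2⟩ := congrArg (fun l : ↥L => ((l : ↥(fixedSubgroup x)) : E)) hab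
    rcases H.map_eq.1 h1 with h2 | h2
    · exact Subtype.ext h2
    · exfalso
      apply hdK
      have h3 : (a : X) = b * d := h2
      have h4 : d = (b : X)⁻¹ * a := by rw [h3]; group
      rw [h4]
      exact K.mul_mem (K.inv_mem b.2) a.2
  have hfb : Function.Bijective f := by
    rw [Nat.bijective_iff_injective_and_card]
    exact ⟨hf, Nat.card_congr e.toEquiv⟩
  have hdd := H.t_sq
  refine hasOne_of_perfect_le hKq hK.1 fun P hPu hPP => ?_
  obtain ⟨hPX, hPL⟩ := key P hPu hPP
  refine perfect_le_of_sq (C := P) (fun p hp => ?_) P le_rfl hPP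
  obtain ⟨l, hl, hl2⟩ := hPL p hp
  obtain ⟨k, hk⟩ := hfb.2 ⟨l, hl⟩
  have h1 : σ ⟨k, hKX k.2⟩ = σ ⟨p, hPX hp⟩ := by
    rw [← hl2]
    exact congrArg (fun l : ↥L => ((l : ↥(fixedSubgroup x)) : E)) hk
  rcases H.map_eq.1 h1.symm with h2 | h2
  · have h3 : p = k := h2
    rw [h3]
    exact K.mul_mem k.2 k.2
  · have h3 : p = k * d := h2
    have h4 : p * p = k * k := by
      rw [h3]
      calc (k : X) * d * (k * d) = k * (d * k) * d := by group
        _ = k * (k * d) * d := by rw [H.comm _ (hKX k.2)]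
        _ = k * k * (d * d) := by group
        _ = k * k := by rw [hdd, mul_one]
    rw [h4]
    exact K.mul_mem k.2 k.2

end two

section all

open Cfsg.Agent.R01.Lifts Cfsg.Agent.MonsterN Cfsg.Agent.MonsterN.Lit Cfsg.Agent.BabyComp.Main
open Cfsg.Agent.BabyComp.BaseTwo

variable {B : Type*} {X : Type u} {E : Type v} [Group B] [Group X] [Group E] [Finite B] [Finite X] [Finite E]
  {q : B →* X} {τ : B} {R : Set E}
variable {y : ℕ → B} {h : Pre y} {π : KK y →* E} {f₁ f₂ f₃ f₄ : B}

/-- **All the involutions.** -/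
theorem one_all [IsSimpleGroup E] {Γ : Type*} [Group Γ] [Finite Γ] (hq : Ext q τ) (h10 : y 10 = τ) (D : KD h R π)
    (Fc : FusionType.Facts τ f₁ f₂ f₃ f₄) {θ : B →* Γ} {z : Γ}
    (hθ : Function.Injective θ) (hr : ∀ x : Γ, x * θ τ = θ τ * x → ∃ b, θ b = x)
    (hcz : IsConj z (θ (τ * (f₁ * f₂)))) (hcd : IsConj z (θ (f₁ * f₂ * f₃)))
    {Q : Subgroup Γ} (hL : Cfsg.Agent.Co2Type.Quad.Large Q z)
    (hc5 : IsConj f₁ (y 5)) (big : KEq.Big B τ (y 5))
    {F : Type*} [Field F] [Fintype F] {hF : Fintype.card F = 2 ^ 2}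
    (hR : Cfsg.Agent.BabyU.RootCfg.RootFacts hF R) (hX : Cfsg.Agent.BabyU.Key.Extra hF R)
    (Rt : Cfsg.Agent.BabyU.Lab.Roots E R) (hna : ∃ a b : E, a * b ≠ b * a)
    (hE : ∀ v : E, orderOf v = 2 → IsOfCharacteristicTwo ↥(centralizer ({v} : Set E)))
    (hS : Schreier.Cases.SchFor.{v} @IsKnownSimple') (hkn : CpAut.AllKnown.{v})
    {M₁ : Subgroup X} (Bs : Base2 (q (y 5)) M₁)
    (bal : ∀ u : X, orderOf u = 2 → centralizerPPrimeCore 2 u = ⊥) (u : X) (hu : orderOf u = 2) :
    OneComp ↥(centralizer ({u} : Set X)) := by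
  obtain ⟨σ, hσ⟩ := exists_sigma hq h10 D
  have H := data hq h10 D big hσ
  have hna' : ¬ IsMulCommutative E := by
    obtain ⟨a, b, hab⟩ := hna
    exact fun h => hab (h.is_comm.comm a b)
  have hM : M₁ = (KK y).map q := Base.eq_map hq h10 big Bs.toBase
  have huu : u * u = 1 := by rw [← pow_two, ← hu, pow_orderOf_eq_one]
  have hu1 : u ≠ 1 := by
    rintro rfl
    rw [orderOf_one] at hu
    omega
  by_cases hI : ∃ g : X, g⁻¹ * u * g ∈ M₁
  · -- case I
    obtain ⟨g, hg⟩ := hI
    obtain ⟨k, hk, hqk⟩ := M_le hq h10 big Bs.toBase _ hg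
    have hgu : u = g * q k * g⁻¹ := by rw [hqk]; group
    rw [hgu]
    refine oneComp_conj ?_ g
    have hkk : k * k = 1 := by
      refine lift_sq hR hX Rt hq h10 D hk ?_
      rw [hqk]
      calc g⁻¹ * u * g * (g⁻¹ * u * g) = g⁻¹ * (u * u) * g := by group
        _ = 1 := by rw [huu]; group
    have hqk1 : q k ≠ 1 := by
      intro e
      apply hu1
      rw [hgu, e]; group
    have hk1 : k ≠ 1 := fun e => hqk1 (by rw [e, map_one])
    have hkτ : k ≠ τ := fun e => hqk1 (by rw [e, hq.mapz])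
    rcases Fc.classes k hkk hk1 hkτ with h1 | h1 | h1 | h1
    · obtain ⟨c, hc⟩ := isConj_iff.1 (q.map_isConj (hc5.symm.trans h1))
      rw [← hc]
      exact oneComp_conj (one_of_sec hna' H) c
    · refine oneComp_of_none fun K => ?_
      refine no_comp_of_large hq hθ hr hL (v := k) (w := k * τ) (Or.inr rfl) ?_ K
      refine hcz.trans (θ.map_isConj ?_)
      rw [hq.comm]
      exact FusionType.conj_mul_t Fc.cen h1
    · exact oneComp_of_none
        (no_comp_of_large hq hθ hr hL (v := k) (w := k) (Or.inl rfl) (hcz.trans (θ.map_isConj h1)))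
    · exact oneComp_of_none
        (no_comp_of_large hq hθ hr hL (v := k) (w := k) (Or.inl rfl) (hcd.trans (θ.map_isConj h1)))
  · -- case II
    push Not at hI
    rcases Bs.classes u huu hu1 with ⟨g, hg⟩ | ⟨d, hd, hc, hud⟩
    · exact absurd hg (hI g)
    obtain ⟨g, hgd⟩ := isConj_iff.1 hd
    set t := q (y 5) with ht
    -- conjugate
    obtain ⟨w, hw⟩ : ∃ w, w = g⁻¹ * u * g := ⟨_, rfl⟩
    have huw : u = g * w * g⁻¹ := by rw [hw]; group
    rw [huw]
    refine oneComp_conj ?_ g
    have hww : w * w = 1 := by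
      rw [hw]
      calc g⁻¹ * u * g * (g⁻¹ * u * g) = g⁻¹ * (u * u) * g := by group
        _ = 1 := by rw [huu]; group
    have hw1 : w ≠ 1 := by
      intro e
      apply hu1
      rw [huw, e]; group
    have hw2 : orderOf w = 2 := orderOf_eq_prime (by rw [pow_two, hww]) hw1
    have htd : t = g⁻¹ * d * g := by rw [← hgd]; group
    have hwt : w * t = t * w := by
      rw [hw, htd]
      calc g⁻¹ * u * g * (g⁻¹ * d * g) = g⁻¹ * (u * d) * g := by group
        _ = g⁻¹ * (d * u) * g := by rw [hc]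
        _ = _ := by group
    have hwtc : IsConj t (w * t) := by
      have h1 : w * t = g⁻¹ * (u * d) * g := by rw [hw, htd]; group
      rw [h1]
      exact hud.trans (isConj_iff.2 ⟨g⁻¹, by group⟩)
    have htt : t * t = 1 := H.t_sq
    obtain ⟨e, he⟩ : ∃ e, e = w * t := ⟨_, rfl⟩
    have hwe : w = t * e := by
      rw [he, hwt, ← mul_assoc, htt, one_mul]
    have het : e * t = t * e := by
      rw [← hwe, he, mul_assoc, htt, mul_one]
    have heM : e ∉ M₁ := by
      intro h1
      have h2 : w ∈ M₁ := by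
        rw [hwe]
        exact M₁.mul_mem (by rw [hM]; exact H.mem) h1
      exact hI g (by rw [← hw]; exact h2)
    have hec : IsConj t e := by rw [he]; exact hwtc
    -- `C(w)` permutes `t` and `e`
    have hperm : ∀ c : X, c * w = w * c → ∀ f, IsConj t f → f * w = w * f → IsConj t (f * w) →
        c * f * c⁻¹ = t ∨ c * f * c⁻¹ = e := by
      intro c hcw f hf hfw hfc
      have hci : c⁻¹ * w = w * c⁻¹ := by
        rw [inv_mul_eq_iff_eq_mul, ← mul_assoc, hcw, mul_inv_cancel_right]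
      refine Bs.uniq e (c * f * c⁻¹) hec het heM (hf.trans (isConj_iff.2 ⟨c, rfl⟩)) ?_ ?_
      · rw [← hwe]
        calc c * f * c⁻¹ * w = c * f * (c⁻¹ * w) := by group
          _ = c * (f * w) * c⁻¹ := by rw [hci]; group
          _ = (c * w) * f * c⁻¹ := by rw [hfw]; group
          _ = w * (c * f * c⁻¹) := by rw [hcw]; group
      · rw [← hwe]
        have h1 : c * f * c⁻¹ * w = c * (f * w) * c⁻¹ := by
          calc c * f * c⁻¹ * w = c * f * (c⁻¹ * w) := by group
            _ = _ := by rw [hci]; group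
        rw [h1]
        exact hfc.trans (isConj_iff.2 ⟨c, rfl⟩)
    have hte : t ≠ e := by
      intro h1
      apply hw1
      rw [hwe, ← h1, htt]
    have hcen : ∀ c : X, c * w = w * c → c * c * t = t * (c * c) := by
      intro c hcw
      have k1 := hperm c hcw t (IsConj.refl t) hwt.symm (by rw [← hwt]; exact hwtc)
      have hew : e * w = w * e := by
        rw [he]
        calc w * t * w = w * (t * w) := by group
          _ = w * (w * t) := by rw [hwt]
      have hew' : e * w = t := by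
        rw [hwe, ← mul_assoc, het, mul_assoc]
        have hee : e * e = 1 := by
          rw [he]
          calc w * t * (w * t) = w * (t * w) * t := by group
            _ = w * (w * t) * t := by rw [hwt]
            _ = (w * w) * (t * t) := by group
            _ = 1 := by rw [hww, htt, one_mul]
        rw [hee, mul_one]
      have k2 := hperm c hcw e hec hew (by rw [hew'])
      rcases k1 with k1 | k1
      · rw [mul_inv_eq_iff_eq_mul] at k1
        rw [mul_assoc, k1, ← mul_assoc, k1, mul_assoc]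
      · rcases k2 with k2 | k2
        · rw [mul_inv_eq_iff_eq_mul] at k1 k2
          rw [mul_assoc, k1, ← mul_assoc, k2, mul_assoc]
        · exfalso
          apply hte
          have h1 : c * t * c⁻¹ = c * e * c⁻¹ := by rw [k1, k2]
          exact mul_left_cancel (mul_right_cancel h1)
    by_cases hno : ∀ K : Subgroup X, ¬ IsComponentOf K (centralizer ({w} : Set X))
    · exact oneComp_of_none hno
    push Not at hno
    obtain ⟨K, hK⟩ := hno
    refine Or.inr (case_two hS hkn hE (Bs.toBase.trans H.t_sq H.t_ne) ?_ hww hw1 (IsConj.refl t) hwt hwtc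
      (bal w hw2) ?_ hK)
    · intro d hd
      obtain ⟨g, rfl⟩ := isConj_iff.1 hd
      have h1 := H.comap (MulAut.conj g⁻¹)
      have h2 : (MulAut.conj g⁻¹).symm (q (y 5)) = g * q (y 5) * g⁻¹ := by
        rw [MulEquiv.symm_apply_eq, MulAut.conj_apply]
        group
      rw [h2] at h1
      exact ⟨_, _, h1⟩
    · intro P hP hPP
      refine perfect_le_of_sq (C := centralizer ({w} : Set X)) (fun c hc => ?_) P hP hPP
      exact mem_centralizer_singleton_iff.2 (hcen c (mem_centralizer_singleton_iff.1 hc))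

end all

open Cfsg Cfsg.Lie Cfsg.Agent.Bimonster Cfsg.Agent.BabyU Cfsg.Agent.TwoESix.Cover
open Cfsg.Agent.MonsterX Cfsg.Agent.MonsterX.Space Cfsg.Agent.MonsterX.Conc Cfsg.Agent.MonsterX.Model
open Cfsg.Agent.MonsterX.InstData Cfsg.Agent.MonsterX.MainPack Cfsg.Agent.MonsterU
open Cfsg.Agent.MonsterP Cfsg.Agent.MonsterP.NodeData Cfsg.Agent.MonsterP.NodesConj Cfsg.Agent.CTwoTab.BInst
open Cfsg.Agent.MonsterX.KSide Cfsg.Agent.MonsterX.KLift Cfsg.Agent.MonsterX.KModel
open Cfsg.Agent.MonsterX.MainBasic Cfsg.Agent.MonsterU.Assembly Cfsg.Agent.MonsterN Cfsg.Agent.MonsterN.Lit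

theorem row0 (hS : Schreier.Cases.SchFor.{0} @IsKnownSimple') (hkn : CpAut.AllKnown.{0}) :
    Row1 Spor.BabyMonster := by
  refine elim ?_
  intro K _ _ hK hF _ _ _ _ q y h π f₁ f₂ f₃ f₄ M₁ hq h10 DK Fc hz hcz hcd hL hc5 big hq5 hcard5 Bs hr
  obtain ⟨M₂, Bs2⟩ := Cfsg.Agent.BabyComp.BaseTwo.exists_base2 hq5
  exact one_all (E := twistedE6 K 2) (hF := hF) hq h10 DK Fc Subtype.val_injective hr hcz hcd hL hc5 big
    (Cfsg.Agent.TwoESix.LeviG.rootFacts hK hF) (Cfsg.Agent.BabyU.KeyInst.extra hF)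
    (Cfsg.Agent.TwoESix.RootsInst.roots K hF) (EFacts.noncomm K hK) (EFacts.charTwo K hK) hS hkn Bs2
    Cfsg.Agent.CTwoTab.B.bal

/-- **The Baby Monster** -/
theorem row (hS : Schreier.Cases.SchFor.{0} @IsKnownSimple') (hkn : CpAut.AllKnown.{0}) {X : Type*} [Group X]
    (h : Cfsg.Spor.IsoB X) : Row1 X := by
  obtain ⟨e⟩ := h
  exact (row0 hS hkn).congr e.symm

end Cfsg.Agent.H73.Spo.SB
end
end

-- part: H73/SporAll
section
set_option linter.all false

-- part: H73/SporHS
section
/-!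
# `HS` (helper73)
-/

set_option autoImplicit false

namespace Cfsg.Agent.H73.Spo.SHS

open Subgroup Cfsg Cfsg.Agent.KFacts.HS Cfsg.Agent.KFacts.HS.DFour Cfsg.Agent.CTwoTab Cfsg.Agent.CTwoTab.HS

/-- **`HS`** -/
theorem row {X : Type*} [Group X] [Finite X] (h : Cfsg.Spor.IsoHS X) : Row1 X := by
  obtain ⟨D⟩ := exists_mod h
  refine Row1.mk_of_isConj (fun s => s = zA D ∨ s = wB D) (fun a haa ha1 => ?_) ?_
  · rcases inv_cases D a haa ha1 with ⟨c, h⟩ | ⟨c, h⟩
    · exact ⟨zA D, Or.inl rfl, isConj_iff.2 ⟨c, h⟩⟩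
    · exact ⟨wB D, Or.inr rfl, isConj_iff.2 ⟨c, h⟩⟩
  · rintro s (rfl | rfl)
    · exact oneComp_of_none (no_comp_zA D)
    · exact oneComp_of_comp (N := LA D) (quasi_alt (n := 6) (by norm_num) (equivLA D)) (LA_le D) (perfect_le_LA D)

end Cfsg.Agent.H73.Spo.SHS
end

-- part: H73/SporAll
section
/-!
# Centralisers of involutions of the sporadic groups have at most one component (helper73)
-/

set_option autoImplicit false

namespace Cfsg.Agent.H73.Spo

open Cfsg

theorem all (hS : Schreier.Cases.SchFor.{0} @IsKnownSimple') (hkn : CpAut.AllKnown.{0}) {X : Type*} [Group X]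
    [Finite X] (h : IsSporadicGroup X) : Row1 X := by
  rcases h with h | h | h | h | h | h | h | h | h | h | h | h | h | h | h | h | h | h | h | h | h | h | h | h |
    h | h
  · exact M11 h
  · exact SM12.row h
  · exact M22 h
  · exact M23 h
  · exact M24 h
  · exact SJ1.row h
  · exact SJ2.row h
  · exact J3 h
  · exact J4 h
  · exact SCo1.row h
  · exact Co2 h
  · exact SCo3.row h
  · exact SMcLLy.mcl h
  · exact SHS.row h
  · exact SSuz.row h
  · exact SHe.row h
  · exact SRu.row h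
  · exact SON.row h
  · exact SMcLLy.ly h
  · exact SFi22.row h
  · exact SFi23.row h
  · exact SFi24.row h
  · exact SHN.row h
  · exact Th h
  · exact SB.row hS hkn h
  · exact SM.row h

end Cfsg.Agent.H73.Spo
end
end
end
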